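import Groth.Agent.H90Lib.PicH1
import Groth.Agent.AmpleLib.Powers
import Groth.Prelude.Def_PicGrp

/-!
# `Pic(X) ≅ H¹(X, G_m)` on the étale site
-/

set_option autoImplicit false
set_option linter.unusedSectionVars false
set_option linter.style.haveILetI false
set_option backward.isDefEq.respectTransparency false
set_option backward.isDefEq.respectTransparency.types false
set_option synthInstance.maxHeartbeats 400000
set_option maxHeartbeats 1000000

universe u

open CategoryTheory CategoryTheory.Limits CategoryTheory.Abelian AlgebraicGeometry Opposite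
open Groth.Agent.EtShLib EtSliceLib MuConstLib
open AmpleLib (res GenOn GenAt shT)

namespace H90Lib

noncomputable section

variable {X : Scheme.{u}}

variable (X) in
/-- A chosen embedding of `G_m` into an injective sheaf. -/
def gmSeq : ShortComplex (EtCoh.Ab X) :=
  ShortComplex.mk (EnoughInjectives.presentation (EtCoh.Gm X)).some.f
    (cokernel.π (EnoughInjectives.presentation (EtCoh.Gm X)).some.f) (cokernel.condition _)

theorem gmSeq_shortExact (X : Scheme.{u}) : (gmSeq X).ShortExact :=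
  { exact := ShortComplex.exact_of_g_is_cokernel _ (cokernelIsCokernel _)
    mono_f := inferInstanceAs (Mono (EnoughInjectives.presentation (EtCoh.Gm X)).some.f)
    epi_g := inferInstanceAs (Epi (cokernel.π (EnoughInjectives.presentation (EtCoh.Gm X)).some.f)) }

instance injective_gmSeq (X : Scheme.{u}) : Injective (gmSeq X).X₂ :=
  (EnoughInjectives.presentation (EtCoh.Gm X)).some.injective

/-- Pushing a `G_m`-section into the injective sheaf. -/
abbrev emb (W : X.Opens) (a : ToType ((EtCoh.Gm X).obj.obj (op (ov W)))) :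
    ToType ((gmSeq X).X₂.obj.obj (op (ov W))) := (gmSeq X).f.hom.app (op (ov W)) a

theorem emb_add (W : X.Opens) (a a' : ToType ((EtCoh.Gm X).obj.obj (op (ov W)))) :
    emb W (a + a') = emb W a + emb W a' := map_add _ a a'

theorem emb_rsv {V W : X.Opens} (h : V ≤ W) (a : ToType ((EtCoh.Gm X).obj.obj (op (ov W)))) :
    emb V (rsv _ h a) = rsv _ h (emb W a) := rsv_app (gmSeq X).f h a

theorem g_emb (W : X.Opens) (a : ToType ((EtCoh.Gm X).obj.obj (op (ov W)))) :
    (gmSeq X).g.hom.app (op (ov W)) (emb W a) = 0 := by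
  show ((gmSeq X).f ≫ (gmSeq X).g).hom.app (op (ov W)) a = 0
  rw [(gmSeq X).zero]
  rfl

/-- The section of a sheaf over an open given by a morphism out of the constant sheaf. -/
def secAt {Q : EtCoh.Ab X} (s : EtCoh.const X ℤ ⟶ Q) (W : X.Opens) : ToType (Q.obj.obj (op (ov W))) :=
  Q.obj.map ((EtCore.topIsTerminal X).from (ov W)).op ((toConst (EtCoh.top X) ≫ s).hom.app (op (EtCoh.top X)) (gen (EtCoh.top X)))

theorem secAt_add {Q : EtCoh.Ab X} (s t : EtCoh.const X ℤ ⟶ Q) (W : X.Opens) :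
    secAt (s + t) W = secAt s W + secAt t W := by
  simp only [secAt, Preadditive.comp_add]
  exact map_add _ _ _

theorem rsv_secAt {Q : EtCoh.Ab X} (s : EtCoh.const X ℤ ⟶ Q) {V W : X.Opens} (h : V ≤ W) :
    rsv Q h (secAt s W) = secAt s V := by
  rw [secAt, secAt, rsv_def, map_map, (EtCore.topIsTerminal X).hom_ext (ovHom h ≫ (EtCore.topIsTerminal X).from (ov W))
    ((EtCore.topIsTerminal X).from (ov V))]

theorem secAt_comp {Q R : EtCoh.Ab X} (s : EtCoh.const X ℤ ⟶ Q) (g : Q ⟶ R) (W : X.Opens) :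
    secAt (s ≫ g) W = g.hom.app _ (secAt s W) := by
  rw [secAt, secAt, NatTrans.naturality_apply g.hom ((EtCore.topIsTerminal X).from (ov W)).op]
  rfl

/-- The global section over `⊤` determines the morphism. -/
theorem exists_hom_secAt {Q : EtCoh.Ab X} (t : ToType (Q.obj.obj (op (ov (⊤ : X.Opens))))) :
    ∃ s : EtCoh.const X ℤ ⟶ Q, secAt s ⊤ = t := by
  obtain ⟨m, hm⟩ := exists_toTop (X := X)
  haveI := isIso_toConst_top X
  refine ⟨inv (toConst (EtCoh.top X)) ≫ desc _ (Q.obj.map m.op t), ?_⟩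
  rw [secAt, IsIso.hom_inv_id_assoc, desc_gen, map_map, hom_ov_ext (_ ≫ m) (𝟙 _), op_id,
    CategoryTheory.Functor.map_id]
  rfl

theorem ext_secAt {Q : EtCoh.Ab X} {s t : EtCoh.const X ℤ ⟶ Q} (h : secAt s ⊤ = secAt t ⊤) : s = t := by
  obtain ⟨m, hm⟩ := exists_toTop (X := X)
  haveI := isIso_toConst_top X
  rw [← cancel_epi (toConst (EtCoh.top X))]
  refine free_hom_ext _ ?_
  have h' := congrArg (Q.obj.map m.op) h
  rw [secAt, secAt, map_map, map_map, (EtCore.topIsTerminal X).hom_ext (m ≫ (EtCore.topIsTerminal X).from _) (𝟙 _),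
    op_id, CategoryTheory.Functor.map_id] at h'
  exact h'

/-- The connecting map in degree one. -/
def del (s : EtCoh.const X ℤ ⟶ (gmSeq X).X₃) : EtCoh.H X (EtCoh.Gm X) 1 :=
  (Ext.mk₀ s).comp (gmSeq_shortExact X).extClass (zero_add 1)

theorem del_add (s t : EtCoh.const X ℤ ⟶ (gmSeq X).X₃) : del (s + t) = del s + del t := by
  rw [del, Ext.mk₀_add, Ext.add_comp]; rfl

theorem del_comp (w : EtCoh.const X ℤ ⟶ (gmSeq X).X₂) : del (w ≫ (gmSeq X).g) = 0 := by
  rw [del, ← Ext.mk₀_comp_mk₀, Ext.comp_assoc_of_second_deg_zero, (gmSeq_shortExact X).comp_extClass, Ext.comp_zero]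

theorem exists_del (c : EtCoh.H X (EtCoh.Gm X) 1) : ∃ s, c = del s := by
  obtain ⟨s, hs⟩ := Ext.covariant_sequence_exact₁ _ (gmSeq_shortExact X) (n₁ := 1) c (Ext.eq_zero_of_injective _)
    (n₀ := 0) rfl
  obtain ⟨s, rfl⟩ := (Ext.mk₀_bijective _ _).2 s
  exact ⟨s, hs.symm⟩

theorem exists_lift_of_del_eq_zero {s : EtCoh.const X ℤ ⟶ (gmSeq X).X₃} (h : del s = 0) :
    ∃ w : EtCoh.const X ℤ ⟶ (gmSeq X).X₂, w ≫ (gmSeq X).g = s := by
  obtain ⟨w, hw⟩ := Ext.covariant_sequence_exact₃ _ (gmSeq_shortExact X) (Ext.mk₀ s) (n₁ := 1) (zero_add 1) h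
  obtain ⟨w, rfl⟩ := (Ext.mk₀_bijective _ _).2 w
  rw [Ext.mk₀_comp_mk₀] at hw
  exact ⟨w, (Ext.mk₀_bijective _ _).1 hw⟩

/-- An invertible module represents a class. -/
def RepClass (L : X.Modules) (c : EtCoh.H X (EtCoh.Gm X) 1) : Prop :=
  ∃ (U : X → X.Opens) (e : ∀ x, Γ(L, U x)) (b : ∀ x, ToType ((gmSeq X).X₂.obj.obj (op (ov (U x)))))
    (s : EtCoh.const X ℤ ⟶ (gmSeq X).X₃), (∀ x, x ∈ U x) ∧ (∀ x, GenOn L (e x)) ∧ c = del s ∧
      (∀ x, (gmSeq X).g.hom.app _ (b x) = secAt s (U x)) ∧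
      ∀ x y (W : X.Opens) (hx : W ≤ U x) (hy : W ≤ U y) (a : ToType ((EtCoh.Gm X).obj.obj (op (ov W)))),
        res L hx (e x) = uVal W a • res L hy (e y) → rsv _ hy (b y) - rsv _ hx (b x) = emb W a

theorem exists_unit_change {L : X.Modules} {U V W : X.Opens} {e : Γ(L, U)} {f : Γ(L, V)} (he : GenOn L e)
    (hf : GenOn L f) (hU : W ≤ U) (hV : W ≤ V) :
    ∃ a : ToType ((EtCoh.Gm X).obj.obj (op (ov W))), res L hU e = uVal W a • res L hV f := by
  obtain ⟨r, hr, hre⟩ := exists_change he hf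
  refine ⟨rsv _ (le_inf hU hV) (uMk _ hr), ?_⟩
  have h := congrArg (res L (le_inf hU hV)) hre
  rw [AmpleLib.res_smul, AmpleLib.res_res, AmpleLib.res_res] at h
  rw [uVal_rsv, uVal_uMk]
  exact h

theorem uVal_ext {L : X.Modules} {V W : X.Opens} {f : Γ(L, V)} (hf : GenOn L f) (hV : W ≤ V)
    {a a' : ToType ((EtCoh.Gm X).obj.obj (op (ov W)))}
    (h : uVal W a • res L hV f = uVal W a' • res L hV f) : a = a' :=
  uVal_injective W ((hf W hV).1 h)

theorem genOn_app_iso {L M : X.Modules} (φ : L ≅ M) {W : X.Opens} {σ : Γ(L, W)} (h : GenOn L σ) :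
    GenOn M (φ.hom.app W σ) := fun V hV => by
  have e : (fun r : Γ(X, V) => r • res M hV (φ.hom.app W σ)) = (φ.hom.app V) ∘ fun r => r • res L hV σ :=
    funext fun r => by
      show r • res M hV (φ.hom.app W σ) = φ.hom.app V (r • res L hV σ)
      rw [QCohLib.app_smul]
      exact congrArg (r • ·) (QCohLib.app_map φ.hom (homOfLE hV) σ).symm
  show Function.Bijective fun r : Γ(X, V) => r • res M hV (φ.hom.app W σ)
  rw [e]
  exact (ConcreteCategory.bijective_of_isIso (φ.hom.app V)).comp (h V hV)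

theorem RepClass.of_iso {L M : X.Modules} {c : EtCoh.H X (EtCoh.Gm X) 1} (h : RepClass L c) (φ : L ≅ M) :
    RepClass M c := by
  obtain ⟨U, e, b, s, hxU, he, hc, hb, hab⟩ := h
  refine ⟨U, fun x => φ.hom.app (U x) (e x), b, s, hxU, fun x => genOn_app_iso φ (he x), hc, hb,
    fun x y W hx hy a ha => hab x y W hx hy a ?_⟩
  refine (ConcreteCategory.bijective_of_isIso (φ.hom.app W)).1 ?_
  rw [QCohLib.app_smul]
  exact (QCohLib.app_map φ.hom (homOfLE hx) (e x)).trans
    (ha.trans (congrArg (uVal W a • ·) (QCohLib.app_map φ.hom (homOfLE hy) (e y)).symm))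

theorem RepClass.unique {L : X.Modules} {c c' : EtCoh.H X (EtCoh.Gm X) 1} (h : RepClass L c) (h' : RepClass L c') :
    c = c' := by
  obtain ⟨U, e, b, s, hxU, he, rfl, hb, hab⟩ := h
  obtain ⟨U', e', b', s', hxU', he', rfl, hb', hab'⟩ := h'
  let T : X × X → X.Opens := fun p => U p.1 ⊓ U' p.2
  choose a ha using fun p : X × X => exists_unit_change (he p.1) (he' p.2) (inf_le_left : T p ≤ U p.1) inf_le_right
  let w : ∀ p : X × X, ToType ((gmSeq X).X₂.obj.obj (op (ov (T p)))) := fun p =>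
    rsv _ inf_le_left (b p.1) + emb _ (a p) - rsv _ inf_le_right (b' p.2)
  obtain ⟨t, ht, -⟩ := exists_glue (gmSeq X).X₂ T ⊤ (fun _ => le_top)
    (fun y _ => ⟨(y, y), hxU y, hxU' y⟩) w fun p q => by
      let W := T p ⊓ T q
      have h1 : W ≤ U p.1 := inf_le_left.trans inf_le_left
      have h2 : W ≤ U q.1 := inf_le_right.trans inf_le_left
      have h1' : W ≤ U' p.2 := inf_le_left.trans inf_le_right
      have h2' : W ≤ U' q.2 := inf_le_right.trans inf_le_right
      obtain ⟨r, hr⟩ := exists_unit_change (he p.1) (he q.1) h1 h2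
      obtain ⟨r', hr'⟩ := exists_unit_change (he' p.2) (he' q.2) h1' h2'
      have hA := congrArg (res L (inf_le_left : W ≤ T p)) (ha p)
      have hB := congrArg (res L (inf_le_right : W ≤ T q)) (ha q)
      rw [AmpleLib.res_smul, AmpleLib.res_res, AmpleLib.res_res, ← uVal_rsv] at hA hB
      have key : rsv _ (inf_le_left : W ≤ T p) (a p) + r' = r + rsv _ (inf_le_right : W ≤ T q) (a q) := by
        refine uVal_ext (he' q.2) h2' ?_
        rw [uVal_add, uVal_add, mul_smul, mul_smul, ← hr', ← hB, ← hA, hr]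
      have e1 := hab p.1 q.1 W h1 h2 r hr
      have e2 := hab' p.2 q.2 W h1' h2' r' hr'
      simp only [w, map_add, map_sub]
      erw [rsv_rsv, rsv_rsv, rsv_rsv, rsv_rsv, ← emb_rsv, ← emb_rsv]
      rw [sub_eq_iff_eq_add.1 e1, sub_eq_iff_eq_add.1 e2]
      have hk := congrArg (emb W) key
      rw [emb_add, emb_add] at hk
      rw [← sub_eq_zero] at hk ⊢
      rw [← hk]
      abel
  obtain ⟨v, hv⟩ := exists_hom_secAt t
  have hs : s = v ≫ (gmSeq X).g + s' := ext_secAt <| by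
    refine ext_cover _ T ⊤ (fun _ => le_top) (fun y _ => ⟨(y, y), hxU y, hxU' y⟩) fun p => ?_
    rw [rsv_secAt, rsv_secAt, secAt_add, secAt_comp, ← rsv_secAt v (le_top : T p ≤ ⊤), hv, ht p]
    simp only [w, map_add, map_sub]
    erw [g_emb, rsv_app, rsv_app, hb, hb', rsv_secAt, rsv_secAt]
    abel
  rw [hs, del_add, del_comp, zero_add]

theorem exists_repClass {L : X.Modules} (hL : PicF.IsInvertible L) : ∃ c, RepClass L c := by
  choose U e hxU he using fun x : X => TwistLib.exists_genOn hL x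
  choose a ha using fun x y : X => exists_unit_change (he x) (he y) (inf_le_left : U x ⊓ U y ≤ U x) inf_le_right
  have hac : IsCocycle (EtCoh.Gm X) U a := fun x y z => by
    refine uVal_ext (he z) inf_le_right ?_
    have h1 := congrArg (res L (inf_le_left : (U x ⊓ U y) ⊓ U z ≤ U x ⊓ U y)) (ha x y)
    have h2 := congrArg (res L (inf_le_inf_right (U z) inf_le_right : (U x ⊓ U y) ⊓ U z ≤ U y ⊓ U z)) (ha y z)
    have h3 := congrArg (res L (inf_le_inf_right (U z) inf_le_left : (U x ⊓ U y) ⊓ U z ≤ U x ⊓ U z)) (ha x z)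
    rw [AmpleLib.res_smul, AmpleLib.res_res, AmpleLib.res_res, ← uVal_rsv] at h1 h2 h3
    rw [uVal_add, mul_smul, ← h2, ← h3, h1]
  have hac' : IsCocycle (gmSeq X).X₂ U fun x y => emb _ (a x y) := fun x y z => by
    rw [← emb_rsv, ← emb_rsv, ← emb_rsv, ← emb_add, hac x y z]
  obtain ⟨b, hb⟩ := hac'.exists_coboundary
  have hb' : ∀ x y, rsv _ inf_le_right (b y) - rsv _ inf_le_left (b x) = emb _ (a x y) := hb
  obtain ⟨σ, hσ, -⟩ := exists_glue (gmSeq X).X₃ U ⊤ (fun _ => le_top) (fun y _ => ⟨y, hxU y⟩)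
    (fun x => (gmSeq X).g.hom.app _ (b x)) fun x y => by
      have h1 := congrArg ((gmSeq X).g.hom.app _) (hb' x y)
      rw [map_sub, rsv_app, rsv_app, g_emb, sub_eq_zero] at h1
      exact h1.symm
  obtain ⟨s, hs⟩ := exists_hom_secAt σ
  refine ⟨del s, U, e, b, s, hxU, he, rfl, fun x => ?_, fun x y W hx hy r hr => ?_⟩
  · rw [← rsv_secAt s (le_top : U x ≤ ⊤), hs, hσ x]
  · have h1 := congrArg (res L (le_inf hx hy)) (ha x y)
    rw [AmpleLib.res_smul, AmpleLib.res_res, AmpleLib.res_res, ← uVal_rsv, hr] at h1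
    rw [uVal_ext (he y) hy h1, emb_rsv, ← hb' x y, map_sub, rsv_rsv, rsv_rsv]

theorem RepClass.tensor {L M : X.Modules} {c d : EtCoh.H X (EtCoh.Gm X) 1} (h : RepClass L c) (h' : RepClass M d) :
    RepClass (CohB1.tensorMod L M) (c + d) := by
  obtain ⟨U, e, b, s, hxU, he, rfl, hb, hab⟩ := h
  obtain ⟨U', e', b', s', hxU', he', rfl, hb', hab'⟩ := h'
  have hgen : ∀ x, GenOn (CohB1.tensorMod L M)
      (shT (res L (inf_le_left : U x ⊓ U' x ≤ U x) (e x)) (res M (inf_le_right : U x ⊓ U' x ≤ U' x) (e' x))) :=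
    fun x => TwistLib.genOn_of_genAt fun z hz =>
      (((he x).res _).genAt hz).tensor (((he' x).res _).genAt hz)
  refine ⟨fun x => U x ⊓ U' x, fun x => shT (res L inf_le_left (e x)) (res M inf_le_right (e' x)),
    fun x => rsv _ inf_le_left (b x) + rsv _ inf_le_right (b' x), s + s', fun x => ⟨hxU x, hxU' x⟩, hgen,
    (del_add s s').symm, fun x => ?_, fun x y W hx hy r hr => ?_⟩
  · rw [map_add, rsv_app, rsv_app, hb, hb', rsv_secAt, rsv_secAt, secAt_add]
  · obtain ⟨p, hp⟩ := exists_unit_change (he x) (he y) (hx.trans inf_le_left) (hy.trans inf_le_left)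
    obtain ⟨p', hp'⟩ := exists_unit_change (he' x) (he' y) (hx.trans inf_le_right) (hy.trans inf_le_right)
    have e1 := hab x y W _ _ p hp
    have e2 := hab' x y W _ _ p' hp'
    rw [AmpleLib.shT_res, AmpleLib.shT_res, AmpleLib.res_res, AmpleLib.res_res, AmpleLib.res_res, AmpleLib.res_res,
      hp, hp', AmpleLib.shT_smul, ← uVal_add] at hr
    have hr2 : p + p' = r := by
      refine uVal_ext (hgen y) hy ?_
      rw [AmpleLib.shT_res, AmpleLib.res_res, AmpleLib.res_res]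
      exact hr
    rw [← hr2, emb_add, ← e1, ← e2, map_add, map_add, rsv_rsv, rsv_rsv, rsv_rsv, rsv_rsv]
    abel

theorem trivial_of_gen {L : X.Modules} (h : ∃ f : Γ(L, (⊤ : X.Opens)), GenOn L f) :
    Nonempty (L ≅ Coh.structureModule X) :=
  let ⟨f, hf⟩ := h
  ⟨(@asIso _ _ _ _ _ (AmpleLib.isIso_unitHom f hf)).symm⟩

theorem RepClass.trivial {L : X.Modules} (h : RepClass L 0) : Nonempty (L ≅ Coh.structureModule X) := by
  obtain ⟨U, e, b, s, hxU, he, hc, hb, hab⟩ := h
  obtain ⟨v, hv⟩ := exists_lift_of_del_eq_zero hc.symm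
  have hp : ∀ x, ∃ p : ToType ((EtCoh.Gm X).obj.obj (op (ov (U x)))), emb _ p = b x - secAt v (U x) := fun x => by
    refine exists_preimage_app (gmSeq_shortExact X) _ _ ?_
    rw [map_sub, ← secAt_comp, hv, hb, sub_self]
  choose p hp using hp
  let e' : ∀ x, Γ(L, U x) := fun x => uVal (U x) (p x) • e x
  let Sh : TopCat.Sheaf AddCommGrpCat.{u} X.toTopCat := (QCohLib.toAbF X).obj L
  obtain ⟨f, hf, -⟩ := TopCat.Sheaf.existsUnique_gluing' Sh U ⊤ (fun _ => homOfLE le_top)
    (fun x _ => TopologicalSpace.Opens.mem_iSup.2 ⟨x, hxU x⟩) e' fun x y => by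
      show res L (inf_le_left : U x ⊓ U y ≤ U x) (e' x) = res L (inf_le_right : U x ⊓ U y ≤ U y) (e' y)
      obtain ⟨r, hr⟩ := exists_unit_change (he x) (he y) (inf_le_left : U x ⊓ U y ≤ U x) inf_le_right
      simp only [e']
      rw [AmpleLib.res_smul, AmpleLib.res_smul, hr, smul_smul, ← uVal_rsv, ← uVal_rsv, ← uVal_add]
      haveI : Mono (gmSeq X).f := (gmSeq_shortExact X).mono_f
      refine congrArg (fun z => uVal _ z • _) (injective_app (gmSeq X).f _ ?_)
      show emb _ _ = emb _ _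
      rw [emb_add, emb_rsv, emb_rsv, hp, hp, map_sub, map_sub, rsv_secAt, rsv_secAt, ← hab x y _ _ _ r hr]
      abel
  refine trivial_of_gen ⟨f, TwistLib.genOn_of_genAt fun x _ => (AmpleLib.genAt_res (le_top : U x ≤ ⊤) f (hxU x)).1 (by
    rw [show res L (le_top : U x ≤ ⊤) f = e' x from hf x]
    exact (AmpleLib.genAt_smul_iff _ (e x) (hxU x) ((he x).genAt (hxU x))).2
      (by rw [X.basicOpen_of_isUnit (isUnit_uVal _ _)]; exact hxU x))⟩

theorem exists_module_repClass (c : EtCoh.H X (EtCoh.Gm X) 1) :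
    ∃ M : X.Modules, PicF.IsInvertible M ∧ RepClass M c := by
  obtain ⟨s, rfl⟩ := exists_del c
  have hloc : ∀ x : X, ∃ U : X.Opens, x ∈ U ∧ ∃ b, (gmSeq X).g.hom.app _ b = secAt s U := fun x => by
    obtain ⟨V', φ, hφ, hxr, d, hd⟩ := exists_lift_open (gmSeq X).f (gmSeq X).g (gmSeq X).zero (gmSeq_shortExact X)
      (EtCoh.top X) ((toConst (EtCoh.top X) ≫ s).hom.app (op (EtCoh.top X)) (gen (EtCoh.top X))) x
    haveI := hφ
    refine ⟨φ.left.opensRange, hxr, ?_⟩
    let θ : ov φ.left.opensRange ⟶ V' := MorphismProperty.Over.homMk φ.left.isoOpensRange.inv (by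
      show φ.left.isoOpensRange.inv ≫ V'.hom = φ.left.opensRange.ι
      rw [Iso.inv_comp_eq, Scheme.Hom.isoOpensRange_hom_ι]
      exact (MorphismProperty.Over.w φ).symm.trans (Category.comp_id _))
    refine ⟨(gmSeq X).X₂.obj.map θ.op d, ?_⟩
    rw [NatTrans.naturality_apply (gmSeq X).g.hom θ.op d, secAt, ← (EtCore.topIsTerminal X).hom_ext (θ ≫ φ)
      ((EtCore.topIsTerminal X).from (ov φ.left.opensRange)), ← map_map]
    exact congrArg _ hd
  choose U hxU b hb using hloc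
  have hu : ∀ x y, ∃ a, emb (U x ⊓ U y) a = rsv _ inf_le_right (b y) - rsv _ inf_le_left (b x) := fun x y => by
    refine exists_preimage_app (gmSeq_shortExact X) _ _ ?_
    rw [map_sub, rsv_app, rsv_app, hb, hb, rsv_secAt, rsv_secAt, sub_self]
  choose a ha using hu
  have hinj : ∀ W : X.Opens, Function.Injective (emb W) := fun W =>
    haveI : Mono (gmSeq X).f := (gmSeq_shortExact X).mono_f
    injective_app (gmSeq X).f _
  have haa : ∀ x, a x x = 0 := fun x => hinj _ (by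
    rw [ha]
    show _ = (gmSeq X).f.hom.app _ 0
    rw [map_zero]
    simp only [rsv_def, hom_ov_ext (ovHom (inf_le_left : U x ⊓ U x ≤ U x)) (ovHom inf_le_right), sub_self])
  have hac : IsCocycle (EtCoh.Gm X) U a := fun x y z => hinj _ (by
    rw [emb_add, emb_rsv, emb_rsv, emb_rsv, ha, ha, ha]
    simp only [map_sub, rsv_rsv]
    abel)
  obtain ⟨M, hM, e, he, heC⟩ := exists_twist (V := U) (C := fun x y => uVal _ (a x y)) (fun y => ⟨y, hxU y⟩)
    (fun x => by rw [haa, uVal_zero]) (fun x y z => by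
      have h1 := congrArg (uVal _) (hac x y z)
      rw [uVal_add, uVal_rsv, uVal_rsv, uVal_rsv] at h1
      exact h1)
  refine ⟨M, hM, U, e, b, s, hxU, he, rfl, hb, fun x y W hx hy r hr => ?_⟩
  have h1 := congrArg (res M (le_inf hx hy)) (heC x y)
  rw [AmpleLib.res_smul, AmpleLib.res_res, AmpleLib.res_res, ← uVal_rsv, hr] at h1
  rw [uVal_ext (he y) hy h1, emb_rsv, ha x y, map_sub, rsv_rsv, rsv_rsv]

theorem nonempty_pic_equiv (X : Scheme.{u}) [PicGrp.Law X] :
    Nonempty (Additive (PicLoc.PicSet X) ≃+ EtCoh.H X (EtCoh.Gm X) 1) := by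
  have hex : ∀ a : PicLoc.PicSet X, ∃ c, ∀ L, PicF.cl L = a.1 → RepClass L c := fun a => by
    obtain ⟨L, hLa, hL⟩ := a.2
    obtain ⟨c, hc⟩ := exists_repClass hL
    refine ⟨c, fun L' hL' => ?_⟩
    obtain ⟨φ⟩ := (PicGrp.cl_eq_cl_iff L L').1 (hLa.trans hL'.symm)
    exact hc.of_iso φ
  choose κ hκ using hex
  have hmul : ∀ a b : PicLoc.PicSet X, κ (a * b) = κ a + κ b := fun a b => by
    obtain ⟨L, hLa, hL⟩ := a.2
    obtain ⟨M, hMb, hM⟩ := b.2
    refine (hκ (a * b) (CohB1.tensorMod L M) ?_).unique ((hκ a L hLa).tensor (hκ b M hMb))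
    rw [PicGrp.mul_val, ← hLa, ← hMb, PicGrp.mulCl_cl]
  let F : Additive (PicLoc.PicSet X) →+ EtCoh.H X (EtCoh.Gm X) 1 :=
    AddMonoidHom.mk' (fun a => κ a.toMul) fun a b => hmul a.toMul b.toMul
  refine ⟨AddEquiv.ofBijective F ⟨(injective_iff_map_eq_zero F).2 fun a ha => ?_, fun c => ?_⟩⟩
  · obtain ⟨L, hLa, hL⟩ := a.toMul.2
    have h0 : RepClass L 0 := by
      have h := hκ a.toMul L hLa
      rwa [show κ a.toMul = 0 from ha] at h
    obtain ⟨φ⟩ := h0.trivial
    refine Additive.toMul.injective (Subtype.ext ?_)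
    rw [toMul_zero, PicGrp.one_eq_unitPicSet, ← hLa]
    exact (PicGrp.cl_eq_cl_iff _ _).2 ⟨φ⟩
  · obtain ⟨M, hM, hc⟩ := exists_module_repClass c
    exact ⟨Additive.ofMul ⟨PicF.cl M, M, rfl, hM⟩, (hκ ⟨PicF.cl M, M, rfl, hM⟩ M rfl).unique hc⟩

end

end H90Lib
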