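import Mathlib.AlgebraicGeometry.PullbackCarrier
import Mathlib.AlgebraicGeometry.Pullbacks
import Mathlib.RingTheory.Flat.Basic
import Mathlib.RingTheory.Flat.FaithfullyFlat.Algebra
import Mathlib.RingTheory.Spectrum.Prime.Chevalley
import Mathlib.RingTheory.Flat.Localization

/-!
# Multiplicative one-cocycles of a faithfully flat algebra
-/

set_option autoImplicit false
set_option maxHeartbeats 1000000

universe u

open TensorProduct CategoryTheory CategoryTheory.Limits AlgebraicGeometry

namespace H90Lib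

variable (A B : Type u) [CommRing A] [CommRing B] [Algebra A B]

/-- Leg `(1,2)` of the triple tensor product. -/
noncomputable abbrev p12 : B ⊗[A] B →ₐ[A] (B ⊗[A] B) ⊗[A] B := Algebra.TensorProduct.includeLeft

/-- Leg `(2,3)` of the triple tensor product. -/
noncomputable abbrev p23 : B ⊗[A] B →ₐ[A] (B ⊗[A] B) ⊗[A] B :=
  Algebra.TensorProduct.map Algebra.TensorProduct.includeRight (AlgHom.id A B)

/-- Leg `(1,3)` of the triple tensor product. -/
noncomputable abbrev p13 : B ⊗[A] B →ₐ[A] (B ⊗[A] B) ⊗[A] B :=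
  Algebra.TensorProduct.map (Algebra.TensorProduct.includeLeft (S := A)) (AlgHom.id A B)

variable {A B}

theorem exists_preimage (q q' : PrimeSpectrum B)
    (h : PrimeSpectrum.comap (algebraMap A B) q = PrimeSpectrum.comap (algebraMap A B) q') :
    ∃ z : PrimeSpectrum (B ⊗[A] B),
      PrimeSpectrum.comap (Algebra.TensorProduct.includeLeft (R := A) (S := A) (A := B) (B := B)).toRingHom z = q ∧
      PrimeSpectrum.comap (Algebra.TensorProduct.includeRight (R := A) (A := B) (B := B)).toRingHom z = q' := by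
  let f := Spec.map (CommRingCat.ofHom (algebraMap A B))
  obtain ⟨w, hw1, hw2⟩ := Scheme.Pullback.exists_preimage_pullback (f := f) (g := f) q q' h
  refine ⟨(pullbackSpecIso A B B).hom w, ?_, ?_⟩
  · show Spec.map (CommRingCat.ofHom _) ((pullbackSpecIso A B B).hom w) = q
    rw [← Scheme.Hom.comp_apply]
    exact (congrArg (fun m : pullback f f ⟶ _ => m w) (pullbackSpecIso_hom_fst A B B)).trans hw1
  · show Spec.map (CommRingCat.ofHom _) ((pullbackSpecIso A B B).hom w) = q'
    rw [← Scheme.Hom.comp_apply]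
    exact (congrArg (fun m : pullback f f ⟶ _ => m w) (pullbackSpecIso_hom_snd A B B)).trans hw2

/-- A multiplicative one-cocycle of a faithfully flat, finitely presented algebra is a coboundary near each prime. -/
theorem exists_coboundary [Module.FaithfullyFlat A B] [Algebra.FinitePresentation A B]
    (u : (B ⊗[A] B)ˣ)
    (hu : p12 A B (u : B ⊗[A] B) * p23 A B (u : B ⊗[A] B) = p13 A B (u : B ⊗[A] B)) (p : PrimeSpectrum A) :
    ∃ (f : A) (b c : B) (N : ℕ), f ∉ p.asIdeal ∧ b * c = algebraMap A B f ^ N ∧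
      b ⊗ₜ[A] (1 : B) = (u : B ⊗[A] B) * ((1 : B) ⊗ₜ[A] b) := by
  classical
  let L : B →ₗ[A] B ⊗[A] B := (Algebra.TensorProduct.includeLeft (S := A)).toLinearMap -
    (LinearMap.mulLeft A (u : B ⊗[A] B)) ∘ₗ (Algebra.TensorProduct.includeRight (R := A) (A := B) (B := B)).toLinearMap
  have hL : ∀ t : B ⊗[A] B, L.rTensor B t = p13 A B t - p12 A B (u : B ⊗[A] B) * p23 A B t := by
    intro t
    induction t using TensorProduct.induction_on with
    | zero => simp
    | tmul a b => simp [L, TensorProduct.sub_tmul]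
    | add a b ha hb => simp only [map_add, ha, hb, mul_add]; abel
  have h0 : L.rTensor B (u : B ⊗[A] B) = 0 := by rw [hL, hu, sub_self]
  haveI : Module.Flat A B := inferInstance
  obtain ⟨t, ht⟩ := (Module.Flat.rTensor_exact B L.exact_subtype_ker_map (u : B ⊗[A] B)).1 h0
  let μ : (B ⊗[A] B) →ₐ[A] B := Algebra.TensorProduct.lmul' A
  let δ : (B ⊗[A] B) ⊗[A] B →ₐ[A] B :=
    (Algebra.TensorProduct.lmul' A).comp (Algebra.TensorProduct.map μ (AlgHom.id A B))
  have h12 : δ.comp (p12 A B) = μ := Algebra.TensorProduct.ext' fun a b => by simp [δ, μ]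
  have h23 : δ.comp (p23 A B) = μ := Algebra.TensorProduct.ext' fun a b => by simp [δ, μ]
  have h13 : δ.comp (p13 A B) = μ := Algebra.TensorProduct.ext' fun a b => by simp [δ, μ]
  have hμ : μ (u : B ⊗[A] B) = 1 := by
    have e := congrArg δ hu
    rw [map_mul] at e
    rw [← AlgHom.comp_apply δ, ← AlgHom.comp_apply δ, ← AlgHom.comp_apply δ, h12, h23, h13] at e
    exact (u.isUnit.map μ).mul_left_cancel (e.trans (mul_one _).symm)
  have hspan : Ideal.span ((LinearMap.ker L : Submodule A B) : Set B) = ⊤ := by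
    rw [Ideal.eq_top_iff_one, ← hμ, ← ht]
    generalize t = t'
    induction t' using TensorProduct.induction_on with
    | zero => simp
    | tmul m b => simpa [μ] using Ideal.mul_mem_right b _ (Ideal.subset_span m.2)
    | add a b ha hb => simpa using Ideal.add_mem _ ha hb
  obtain ⟨q, hq⟩ := PrimeSpectrum.comap_surjective_of_faithfullyFlat (A := A) (B := B) p
  obtain ⟨b, hb, hbq⟩ : ∃ b ∈ LinearMap.ker L, b ∉ q.asIdeal := by
    by_contra hne
    push Not at hne
    exact q.isPrime.ne_top (top_unique (hspan ▸ Ideal.span_le.2 fun m hm => hne m hm))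
  have hb' : b ⊗ₜ[A] (1 : B) = (u : B ⊗[A] B) * ((1 : B) ⊗ₜ[A] b) := sub_eq_zero.1 (by simpa [L] using hb)
  have hopen : IsOpen (PrimeSpectrum.comap (algebraMap A B) '' PrimeSpectrum.basicOpen b) :=
    PrimeSpectrum.isOpenMap_comap_of_hasGoingDown_of_finitePresentation _ (PrimeSpectrum.basicOpen b).isOpen
  obtain ⟨_, ⟨f, rfl⟩, hpf, hf⟩ :=
    PrimeSpectrum.isTopologicalBasis_basic_opens.exists_subset_of_mem_open
      (show p ∈ PrimeSpectrum.comap (algebraMap A B) '' PrimeSpectrum.basicOpen b from ⟨q, hbq, hq⟩) hopen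
  have hsat : ∀ q' : PrimeSpectrum B, algebraMap A B f ∉ q'.asIdeal → b ∉ q'.asIdeal := by
    intro q' hq' hbq'
    obtain ⟨r, hr, hrq⟩ := hf (show PrimeSpectrum.comap (algebraMap A B) q' ∈ (PrimeSpectrum.basicOpen f : Set _) from hq')
    obtain ⟨z, hz1, hz2⟩ := exists_preimage r q' hrq
    refine hr ?_
    rw [← hz1]
    show b ⊗ₜ[A] (1 : B) ∈ z.asIdeal
    rw [hb']
    refine Ideal.mul_mem_left _ _ ?_
    rw [← hz2] at hbq'
    exact hbq'
  have hrad : algebraMap A B f ∈ (Ideal.span {b}).radical := by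
    rw [Ideal.radical_eq_sInf]
    refine Ideal.mem_sInf.2 ?_
    rintro J ⟨hJ, hJp⟩
    by_contra hne
    exact hsat ⟨J, hJp⟩ hne (hJ (Ideal.mem_span_singleton_self b))
  obtain ⟨N, hN⟩ := hrad
  obtain ⟨c, hc⟩ := Ideal.mem_span_singleton'.1 hN
  exact ⟨f, b, c, N, hpf, by rw [mul_comm, hc], hb'⟩

end H90Lib
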