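import Groth.Agent.NormDescLib.Cocycle

/-!
# Line bundles from cocycles of units on an open cover
-/

set_option autoImplicit false
universe u

open CategoryTheory CategoryTheory.Limits AlgebraicGeometry TopologicalSpace Opposite
open AmpleLib (res GenOn)
open DiscExtLib (triv cut cut_le cut_le_left cut_mono le_cut fn pi_sections)
open NormDescLib (tuples tc rY rY_rY rY_mul tc_res tc_smul tc_sub tc_zero exists_tuple tuple_ext)

noncomputable section

namespace H90Lib

variable {Y : Scheme.{u}} {ι : Type u} (V : ι → Y.Opens) (C : ∀ i j : ι, Γ(Y, V i ⊓ V j))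

theorem cut_inf_le (i j : ι) (W : Y.Opens) : cut (V i) W ⊓ cut (V j) W ≤ V i ⊓ V j :=
  inf_le_inf (cut_le_left (V i) W) (cut_le_left (V j) W)

/-- The tuples transforming by the cocycle. -/
def twist : QCohLib.LocSub (tuples V) where
  mem W a := ∀ i j, rY (inf_le_right : cut (V i) W ⊓ cut (V j) W ≤ cut (V j) W) (tc V j a) =
    rY (inf_le_left : cut (V i) W ⊓ cut (V j) W ≤ cut (V i) W) (tc V i a) * rY (cut_inf_le V i j W) (C i j)
  zero W i j := by
    rw [tc_zero, tc_zero]
    simp [rY]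
  add {W a b} ha hb i j := by
    have e : ∀ k, tc V k (a + b) = tc V k a + tc V k b := fun k =>
      map_add ((Pi.π (fun i => triv (V i)) k).app W).hom a b
    simp only [rY, e, map_add, add_mul] at *
    rw [ha i j, hb i j]
  smul {W} r {a} ha i j := by
    rw [tc_smul, tc_smul, rY_mul, rY_mul, rY_rY, rY_rY, ha i j, mul_assoc]
  res {W W'} h {a} ha i j := by
    have := congrArg (rY (inf_le_inf (cut_mono (V i) h) (cut_mono (V j) h))) (ha i j)
    rw [rY_mul, rY_rY, rY_rY, rY_rY] at this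
    show rY _ (tc V j (res (tuples V) h a)) = rY _ (tc V i (res (tuples V) h a)) * _
    rw [tc_res, tc_res, rY_rY, rY_rY]
    exact this
  local' {W} a ha i j := by
    refine TopCat.Presheaf.section_ext Y.sheaf _ _ _ fun y hy => ?_
    obtain ⟨W', h, hyW', hm⟩ := ha y (cut_le _ _ hy.1)
    have hm' : rY (inf_le_right : cut (V i) W' ⊓ cut (V j) W' ≤ cut (V j) W') (tc V j (res (tuples V) h a)) =
        rY (inf_le_left : cut (V i) W' ⊓ cut (V j) W' ≤ cut (V i) W') (tc V i (res (tuples V) h a)) *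
          rY (cut_inf_le V i j W') (C i j) := hm i j
    rw [tc_res, tc_res, rY_rY, rY_rY] at hm'
    have hy' : y ∈ cut (V i) W' ⊓ cut (V j) W' :=
      ⟨le_cut _ _ ⟨hyW', cut_le_left _ _ hy.1⟩, le_cut _ _ ⟨hyW', cut_le_left _ _ hy.2⟩⟩
    have h' := congrArg (Y.presheaf.germ _ y hy') hm'
    change Y.presheaf.germ _ y hy _ = Y.presheaf.germ _ y hy _
    simp only [rY, map_mul, TopCat.Presheaf.germ_res_apply] at h' ⊢
    exact h'

variable {V C}

/-- An invertible module with frames whose transition functions are the cocycle. -/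
theorem exists_twist (hcov : ∀ y : Y, ∃ i, y ∈ V i) (hone : ∀ i, C i i = 1)
    (hcoc : ∀ i j k, rY (inf_le_left : (V i ⊓ V j) ⊓ V k ≤ V i ⊓ V j) (C i j) *
        rY (inf_le_inf_right (V k) inf_le_right : (V i ⊓ V j) ⊓ V k ≤ V j ⊓ V k) (C j k) =
      rY (inf_le_inf_right (V k) inf_le_left : (V i ⊓ V j) ⊓ V k ≤ V i ⊓ V k) (C i k)) :
    ∃ (M : Y.Modules) (_ : PicF.IsInvertible M) (e : ∀ i, Γ(M, V i)), (∀ i, GenOn M (e i)) ∧
      ∀ i j, res M (inf_le_left : V i ⊓ V j ≤ V i) (e i) = C i j • res M (inf_le_right : V i ⊓ V j ≤ V j) (e j) := by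
  let S := twist V C
  choose t ht using fun i => exists_tuple V (W := V i) fun j =>
    rY (le_inf (cut_le (V j) (V i)) (cut_le_left (V j) (V i))) (C i j)
  have hmem : ∀ i, S.mem (V i) (t i) := fun i j k => by
    have := congrArg (rY (le_inf (le_inf (inf_le_left.trans (cut_le (V j) (V i)))
      (inf_le_left.trans (cut_le_left (V j) (V i)))) (inf_le_right.trans (cut_le_left (V k) (V i))) :
      cut (V j) (V i) ⊓ cut (V k) (V i) ≤ (V i ⊓ V j) ⊓ V k)) (hcoc i j k)
    rw [rY_mul, rY_rY, rY_rY, rY_rY] at this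
    rw [ht i j, ht i k, rY_rY, rY_rY]
    exact this.symm
  let τ : ∀ i, Γ(S.toModules, V i) := fun i => S.lift (t i) (hmem i)
  have hτ : ∀ i (W : Y.Opens) (hW : W ≤ V i) j, tc V j (S.ι.app W (res S.toModules hW (τ i))) =
      rY (le_inf ((cut_le (V j) W).trans hW) (cut_le_left (V j) W)) (C i j) := fun i W hW j => by
    rw [show S.ι.app W (res S.toModules hW (τ i)) = res (tuples V) hW (t i) from
      QCohLib.app_map S.ι (homOfLE hW) (τ i), tc_res, ht i j, rY_rY]
  have hsm : ∀ i (W : Y.Opens) (hW : W ≤ V i) (r : Γ(Y, W)) j,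
      tc V j (S.ι.app W (r • res S.toModules hW (τ i))) =
        rY (cut_le (V j) W) r * rY (le_inf ((cut_le (V j) W).trans hW) (cut_le_left (V j) W)) (C i j) :=
    fun i W hW r j => by rw [QCohLib.app_smul, tc_smul, hτ]
  have hkey : ∀ i (W : Y.Opens), W ≤ V i → ∀ a : Γ(tuples V, W), S.mem W a → tc V i a = 0 → a = 0 :=
    fun i W hW a ha h0 => tuple_ext V fun j => by
      rw [tc_zero]
      have h1 := ha i j
      rw [h0] at h1
      have hle : cut (V j) W ≤ cut (V i) W ⊓ cut (V j) W :=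
        le_inf ((le_inf (cut_le _ _) ((cut_le _ _).trans hW)).trans (le_cut (V i) W)) le_rfl
      have h2 := congrArg (rY hle) h1
      rw [rY_mul, rY_rY, rY_rY, rY_rY, show rY (hle.trans inf_le_left) (0 : Γ(Y, cut (V i) W)) = 0 from map_zero _,
        zero_mul] at h2
      exact (AmpleLib.res_refl (Coh.structureModule Y) (tc V j a)).symm.trans h2
  have hgen : ∀ i, GenOn S.toModules (τ i) := by
    intro i W hW
    have hle : W ≤ cut (V i) W := (le_inf le_rfl hW).trans (le_cut (V i) W)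
    have hre : ∀ r : Γ(Y, W), rY hle (rY (cut_le (V i) W) r) = r := fun r =>
      (rY_rY _ _ r).trans (AmpleLib.res_refl (Coh.structureModule Y) r)
    have hi : ∀ r : Γ(Y, W), tc V i (S.ι.app W (r • res S.toModules hW (τ i))) = rY (cut_le (V i) W) r :=
      fun r => by
        rw [hsm, hone, show rY (le_inf ((cut_le (V i) W).trans hW) (cut_le_left (V i) W))
          (1 : Γ(Y, V i ⊓ V i)) = 1 from map_one _, mul_one]
    refine ⟨fun r r' e => ?_, fun s => ?_⟩
    · have := congrArg (fun z => rY hle (tc V i (S.ι.app W z))) e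
      simpa only [hi, hre] using this
    · refine ⟨rY hle (tc V i (S.ι.app W s)), S.ι_app_injective W (sub_eq_zero.mp ?_).symm⟩
      refine hkey i W hW _ ((S.sub W).sub_mem (S.ι_app_mem s) (S.ι_app_mem _)) ?_
      rw [tc_sub, hi, sub_eq_zero, rY_rY]
      exact (AmpleLib.res_refl (Coh.structureModule Y) _).symm
  refine ⟨S.toModules, TwistLib.isInvertible_of_genOn V (fun y => hcov y) _ hgen, τ, hgen, fun i j => ?_⟩
  refine S.ι_app_injective _ (tuple_ext V fun k => ?_)
  rw [hτ, hsm]
  have := congrArg (rY (le_inf (cut_le (V k) (V i ⊓ V j)) (cut_le_left (V k) (V i ⊓ V j)))) (hcoc i j k)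
  rw [rY_mul, rY_rY, rY_rY, rY_rY] at this
  exact this.symm

end H90Lib
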