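import Groth.Agent.H90Lib.StalkGm
import Groth.Agent.SkySumLib.MaxUnitMain
import Groth.Prelude.Def_EtLim

/-!
# `G_m → j_* G_m` for the local scheme at a point is bijective on the stalks over that point
-/

set_option autoImplicit false
set_option linter.style.haveILetI false
set_option linter.unusedSectionVars false
set_option backward.isDefEq.respectTransparency false
set_option backward.isDefEq.respectTransparency.types false
set_option synthInstance.maxHeartbeats 400000
set_option maxHeartbeats 1000000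

universe u

open CategoryTheory CategoryTheory.Limits AlgebraicGeometry Opposite
open Groth.Agent.EtShLib MuConstLib SkySumLib

noncomputable section

namespace H90Lib

variable {X : Scheme.{u}}

/-- `j_* G_m` for `j : Spec 𝒪_{X,x} → X`. -/
abbrev KLoc (x : X) : EtCoh.Ab X :=
  (EtCoh.push (X.fromSpecStalk x)).obj (EtCoh.Gm (Spec (X.presheaf.stalk x)))

/-- The canonical map. -/
abbrev uLoc (x : X) : EtCoh.Gm X ⟶ KLoc x := EtLim.GmPush (X.fromSpecStalk x)

theorem gmVal_uLoc (x : X) (W : X.Etale) (s : ToType ((EtCoh.Gm X).obj.obj (op W))) :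
    gmVal (Spec (X.presheaf.stalk x)) (W := (EtCoh.bc (X.fromSpecStalk x)).obj W) ((uLoc x).hom.app (op W) s) =
      (pullback.fst W.hom (X.fromSpecStalk x)).appTop.hom (gmVal X s) := rfl

/-- A unit as a section. -/
def gmMk {W : X.Etale} (v : (Γ(W.left, ⊤))ˣ) : ToType ((EtCoh.Gm X).obj.obj (op W)) :=
  ULift.up (Additive.ofMul v)

theorem gmVal_gmMk {W : X.Etale} (v : (Γ(W.left, ⊤))ˣ) : gmVal X (gmMk v) = v.val := rfl

theorem gmVal_zero {W : X.Etale} : gmVal X (0 : ToType ((EtCoh.Gm X).obj.obj (op W))) = 1 := rfl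

theorem exists_chart_below {x : X} {D : X.Opens} (hxD : x ∈ D) {Ω : Type u} [Field Ω] [IsSepClosed Ω]
    {ξ : Spec (CommRingCat.of Ω) ⟶ X} (hξ : ξ.base default = x) (V : X.Etale) (v : Fib ξ V) :
    ∃ (W : X.Etale) (g : W ⟶ V) (w : Fib ξ W), IsAffine W.left ∧ Set.range W.hom.base ⊆ (D : Set X) ∧
      w.map g = v := by
  let O : V.left.Opens := V.hom ⁻¹ᵁ D
  have hv : v.pt ∈ O := by
    show V.hom.base v.pt ∈ D
    rw [fib_pt_over hξ v]; exact hxD
  let l : Spec (CommRingCat.of Ω) ⟶ O.toScheme := IsOpenImmersion.lift O.ι v.hom (by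
    rintro _ ⟨c, rfl⟩
    rw [Subsingleton.elim c default, Scheme.Opens.range_ι]
    exact hv)
  let v₁ : Fib ξ (openSub V O) := Fib.mk l (by
    show l ≫ O.ι ≫ V.hom = _
    rw [← Category.assoc, IsOpenImmersion.lift_fac]
    exact v.w)
  obtain ⟨W, g, w, hW, hw⟩ := exists_affine_below' ξ (openSub V O) v₁
  refine ⟨W, g ≫ openIncl V O, w, hW, ?_, ?_⟩
  · rintro _ ⟨p, rfl⟩
    have e : g.left ≫ O.ι ≫ V.hom = W.hom := MorphismProperty.Over.w g
    rw [← e]
    exact (g.left.base p).2
  · refine Fib.ext ?_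
    have h1 : w.hom ≫ g.left = l := (Fib.map_hom g w).symm.trans (congrArg Fib.hom hw)
    rw [Fib.map_hom]
    show w.hom ≫ g.left ≫ O.ι = v.hom
    rw [← Category.assoc, h1, IsOpenImmersion.lift_fac]

theorem exists_open_below {x : X} {Ω : Type u} [Field Ω] [IsSepClosed Ω]
    {ξ : Spec (CommRingCat.of Ω) ⟶ X} (hξ : ξ.base default = x) (W : X.Etale) (w : Fib ξ W)
    (O : W.left.Opens) (hO : ∀ p, W.hom.base p = x → p ∈ O) :
    ∃ w' : Fib ξ (openSub W O), w'.map (openIncl W O) = w := by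
  let l : Spec (CommRingCat.of Ω) ⟶ O.toScheme := IsOpenImmersion.lift O.ι w.hom (by
    rintro _ ⟨q, rfl⟩
    rw [Subsingleton.elim q default, Scheme.Opens.range_ι]
    exact hO _ (fib_pt_over hξ w))
  refine ⟨Fib.mk l (by
    show l ≫ O.ι ≫ W.hom = _
    rw [← Category.assoc, IsOpenImmersion.lift_fac]
    exact w.w), Fib.ext ?_⟩
  rw [Fib.map_hom]
  exact IsOpenImmersion.lift_fac _ _ _

theorem isUnit_res_basicOpen (W : Scheme.{u}) (c : Γ(W, ⊤)) :
    IsUnit ((W.basicOpen c).ι.appTop.hom c) := by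
  have h := (RingedSpace.isUnit_res_basicOpen W.toRingedSpace c).map (W.basicOpen c).topIso.inv.hom
  convert h using 1
  rw [Scheme.Opens.ι_appTop]
  show _ = (W.presheaf.map _ ≫ W.presheaf.map _).hom c
  rw [← Functor.map_comp]
  rfl

theorem bijective_stk_uLoc (x : X) {Ω : Type u} [Field Ω] [IsSepClosed Ω]
    (ξ : Spec (CommRingCat.of Ω) ⟶ X) (hξ : ξ.base default = x) :
    Function.Bijective ((stk (A := AddCommGrpCat.{u + 1}) ξ).map (uLoc x)) := by
  obtain ⟨D, hD, hxD, -⟩ := exists_isAffineOpen_mem_and_subset (X := X) (x := x) (U := ⊤) trivial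
  constructor
  · rw [injective_iff_map_eq_zero]
    intro q hq
    obtain ⟨V, v, s, rfl⟩ := exists_germ (A := AddCommGrpCat.{u + 1}) ξ q
    rw [germ_natural_apply, ← map_zero (germ ξ (KLoc x) V v).hom] at hq
    obtain ⟨V₁, g₁, v₁, hv₁, he⟩ := (germ_eq_iff (F := KLoc x) _ V v _ _).1 hq
    rw [map_zero, ← NatTrans.naturality_apply] at he
    obtain ⟨W, g, w, hW, hWD, hw⟩ := exists_chart_below hxD hξ V₁ v₁
    haveI := hW
    let s' := (EtCoh.Gm X).obj.map g.op ((EtCoh.Gm X).obj.map g₁.op s)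
    have hs' : (uLoc x).hom.app (op W) s' = 0 := by
      show (uLoc x).hom.app (op W) ((EtCoh.Gm X).obj.map g.op ((EtCoh.Gm X).obj.map g₁.op s)) = 0
      rw [NatTrans.naturality_apply (uLoc x).hom g.op]
      erw [he]
      exact map_zero _
    obtain ⟨hinj, -⟩ := loc_data hD hxD (W := W.left) W.hom hWD
    obtain ⟨c, hc, hcs⟩ := hinj (gmVal X s') 1 (by
      refine (gmVal_uLoc x W s').symm.trans ?_
      rw [hs', map_one]
      rfl)
    obtain ⟨w', hw'⟩ := exists_open_below hξ W w (W.left.basicOpen c) hc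
    rw [← hv₁, ← germ_res_apply, ← hw, ← germ_res_apply, ← hw', ← germ_res_apply]
    have hz : (EtCoh.Gm X).obj.map (openIncl W (W.left.basicOpen c)).op s' = 0 := gmVal_injective X (by
      rw [gmVal_map, gmVal_zero]
      have h := congrArg (W.left.basicOpen c).ι.appTop.hom hcs
      rw [map_mul, map_mul, map_one, mul_one] at h
      exact (isUnit_res_basicOpen W.left c).mul_left_cancel (h.trans (mul_one _).symm))
    erw [hz]
    exact map_zero _
  · intro q
    obtain ⟨V, v, t, rfl⟩ := exists_germ (A := AddCommGrpCat.{u + 1}) ξ q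
    obtain ⟨W, g, w, hW, hWD, hw⟩ := exists_chart_below hxD hξ V v
    haveI := hW
    let t₀ := (KLoc x).obj.map g.op t
    obtain ⟨hinj, hsurj⟩ := loc_data hD hxD (W := W.left) W.hom hWD
    let P := Spec (X.presheaf.stalk x)
    let Z := (EtCoh.bc (X.fromSpecStalk x)).obj W
    obtain ⟨n, c, hc, hn⟩ := hsurj (gmVal P (W := Z) t₀)
    obtain ⟨n', c', hc', hn'⟩ := hsurj (gmVal P (W := Z) (-t₀))
    obtain ⟨d, hd, hdd⟩ := hinj (n * n') (c * c') (by
      rw [map_mul, map_mul, ← hn, ← hn']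
      have h1 : gmVal P (W := Z) t₀ * gmVal P (W := Z) (-t₀) = 1 :=
        (show _ = gmVal P (W := Z) (t₀ + -t₀) from rfl).trans (by rw [add_neg_cancel]; rfl)
      calc gmVal P (W := Z) t₀ * _ * (gmVal P (W := Z) (-t₀) * _) = (gmVal P (W := Z) t₀ * gmVal P (W := Z) (-t₀)) * (_ * _) :=
            mul_mul_mul_comm _ _ _ _
        _ = _ := by rw [h1, one_mul])
    let C := d * (c * c')
    obtain ⟨w', hw'⟩ := exists_open_below hξ W w (W.left.basicOpen C) fun p hp => by
      rw [Scheme.basicOpen_mul, Scheme.basicOpen_mul]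
      exact ⟨hd p hp, hc p hp, hc' p hp⟩
    let i := openIncl W (W.left.basicOpen C)
    let ρ := (W.left.basicOpen C).ι.appTop.hom
    have hu : IsUnit (ρ d * (ρ c * ρ c')) := by
      rw [← map_mul, ← map_mul]; exact isUnit_res_basicOpen W.left C
    have hdd' := congrArg ρ hdd
    simp only [map_mul] at hdd'
    have hcu : IsUnit (ρ c) := isUnit_of_mul_isUnit_left (isUnit_of_mul_isUnit_right hu)
    have hnu : IsUnit (ρ n) := isUnit_of_mul_isUnit_left (isUnit_of_mul_isUnit_right (hdd' ▸ hu))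
    refine ⟨germ ξ (EtCoh.Gm X) _ w' (gmMk (W := openSub W (W.left.basicOpen C)) (hnu.unit * hcu.unit⁻¹)), ?_⟩
    rw [germ_natural_apply, ← hw, ← germ_res_apply, ← hw', ← germ_res_apply]
    refine congrArg (germ ξ (KLoc x) _ w') (gmVal_injective _ (W := (EtCoh.bc (X.fromSpecStalk x)).obj
      (openSub W (W.left.basicOpen C))) ?_)
    rw [gmVal_uLoc, gmVal_gmMk]
    let q' := (pullback.fst (openSub W (W.left.basicOpen C)).hom (X.fromSpecStalk x)).appTop.hom
    let b : Γ(Z.left, ⊤) →+* Γ(pullback (openSub W (W.left.basicOpen C)).hom (X.fromSpecStalk x), ⊤) :=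
      ((EtCoh.bc (X.fromSpecStalk x)).map i).left.appTop.hom
    show q' _ = b (gmVal P (W := Z) t₀)
    have hq : ∀ z, q' (ρ z) = b ((pullback.fst W.hom (X.fromSpecStalk x)).appTop.hom z) := fun z => by
      have h : pullback.fst (openSub W (W.left.basicOpen C)).hom (X.fromSpecStalk x) ≫ (W.left.basicOpen C).ι =
          ((EtCoh.bc (X.fromSpecStalk x)).map i).left ≫ pullback.fst W.hom (X.fromSpecStalk x) :=
        (pullback.lift_fst _ _ _).symm
      exact congrArg (fun f : _ ⟶ W.left => f.appTop.hom z) h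
    refine (hcu.map q').mul_right_cancel ?_
    have h2 := congrArg b hn
    rw [map_mul] at h2
    have h3 : b (gmVal P (W := Z) t₀) * q' (ρ c) = q' (ρ n) := by rw [hq, hq]; exact h2
    refine Eq.trans ?_ h3.symm
    refine (map_mul q' _ _).symm.trans ?_
    congr 1
    rw [Units.val_mul]
    erw [mul_assoc, hcu.val_inv_mul, mul_one]
    rfl

end H90Lib

end
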