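import Groth.Agent.H90Lib.ZarCech
import Groth.Agent.H90Lib.Twist
import Groth.Agent.H90Lib.StalkPush
import Groth.Agent.TwistLib.PullGen
import Groth.Agent.EtTransferLib.Basic

/-!
# `H¹(X, G_m) = 0` exactly when all invertible modules are trivial
-/

set_option autoImplicit false
set_option linter.unusedSectionVars false
set_option linter.style.haveILetI false
set_option backward.isDefEq.respectTransparency false
set_option backward.isDefEq.respectTransparency.types false
set_option synthInstance.maxHeartbeats 400000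
set_option maxHeartbeats 1000000

universe u

open CategoryTheory CategoryTheory.Limits CategoryTheory.Abelian AlgebraicGeometry Opposite
open Groth.Agent.EtShLib EtSliceLib MuConstLib
open AmpleLib (res GenOn)

namespace H90Lib

noncomputable section

variable {X : Scheme.{u}}

/-- The function underlying a section of `G_m` over an open. -/
def uVal (U : X.Opens) (s : ToType ((EtCoh.Gm X).obj.obj (op (ov U)))) : Γ(X, U) :=
  U.topIso.hom.hom (gmVal X s)

theorem uVal_add (U : X.Opens) (s t : ToType ((EtCoh.Gm X).obj.obj (op (ov U)))) :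
    uVal U (s + t) = uVal U s * uVal U t :=
  (congrArg U.topIso.hom.hom (show gmVal X (s + t) = gmVal X s * gmVal X t from rfl)).trans (map_mul _ _ _)

theorem uVal_zero (U : X.Opens) : uVal U (0 : ToType ((EtCoh.Gm X).obj.obj (op (ov U)))) = 1 :=
  (congrArg U.topIso.hom.hom (gmVal_zero (W := ov U))).trans (map_one _)

theorem uVal_injective (U : X.Opens) : Function.Injective (uVal U) :=
  (ConcreteCategory.bijective_of_isIso U.topIso.hom).1.comp (gmVal_injective X)

theorem uVal_rsv {V U : X.Opens} (h : V ≤ U) (s : ToType ((EtCoh.Gm X).obj.obj (op (ov U)))) :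
    uVal V (rsv (EtCoh.Gm X) h s) = X.presheaf.map (homOfLE h).op (uVal U s) := by
  have e : (X.homOfLE h).appTop ≫ V.topIso.hom = U.topIso.hom ≫ X.presheaf.map (homOfLE h).op := by
    rw [Scheme.homOfLE_appTop]
    show X.presheaf.map _ ≫ X.presheaf.map _ = X.presheaf.map _ ≫ X.presheaf.map _
    rw [← Functor.map_comp, ← Functor.map_comp]
    rfl
  exact congrArg (fun f : Γ(U.toScheme, ⊤) ⟶ Γ(X, V) => f.hom (gmVal X s)) e

theorem isUnit_uVal (U : X.Opens) (s : ToType ((EtCoh.Gm X).obj.obj (op (ov U)))) : IsUnit (uVal U s) :=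
  IsUnit.of_mul_eq_one (uVal U (-s)) (by rw [← uVal_add, add_neg_cancel, uVal_zero])

/-- A unit as a section of `G_m` over an open. -/
def uMk (U : X.Opens) {r : Γ(X, U)} (hr : IsUnit r) : ToType ((EtCoh.Gm X).obj.obj (op (ov U))) :=
  gmMk (W := ov U) (hr.map U.topIso.inv.hom).unit

theorem uVal_uMk (U : X.Opens) {r : Γ(X, U)} (hr : IsUnit r) : uVal U (uMk U hr) = r :=
  congrArg (fun f : Γ(X, U) ⟶ Γ(X, U) => f.hom r) U.topIso.inv_hom_id

theorem isIso_toConst_top (Y : Scheme.{u}) : IsIso (toConst (EtCoh.top Y)) := by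
  let σ : EtCoh.const Y ℤ ⟶ free (EtCoh.top Y) := ((EtCore.constAdj Y).homEquiv _ _).symm (intHom (gen (EtCoh.top Y)))
  have h1 : (toConst (EtCoh.top Y)).hom.app (op (EtCoh.top Y)) (gen (EtCoh.top Y)) = DescSecLib.etOneSec Y ⟨1⟩ := by
    rw [toConst, desc_gen, (EtCore.topIsTerminal Y).hom_ext ((EtCore.topIsTerminal Y).from (EtCoh.top Y)) (𝟙 _)]
    simp
  have h2 : σ.hom.app (op (EtCoh.top Y)) (DescSecLib.etOneSec Y ⟨1⟩) = gen (EtCoh.top Y) := by
    show (EtCore.gsec Y).map σ (DescSecLib.etOneSec Y ⟨1⟩) = _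
    rw [gsec_map_symm, intHom_one]
  refine ⟨σ, free_hom_ext _ ?_, DescSecLib.et_ext_Z _ _ ?_⟩
  · show σ.hom.app _ ((toConst (EtCoh.top Y)).hom.app (op (EtCoh.top Y)) (gen (EtCoh.top Y))) = gen (EtCoh.top Y)
    rw [h1, h2]
  · rw [Functor.map_comp, ConcreteCategory.comp_apply, gsec_map_symm, intHom_one]
    exact h1

/-- The open `⊤` as an étale object maps to the final one. -/
abbrev fromTop : ov (⊤ : X.Opens) ⟶ EtCoh.top X := (EtCore.topIsTerminal X).from _

theorem exists_toTop : ∃ m : EtCoh.top X ⟶ ov (⊤ : X.Opens), m ≫ fromTop = 𝟙 _ := by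
  obtain ⟨m⟩ := exists_hom_ov (Z := EtCoh.top X) (U := (⊤ : X.Opens)) (fun _ _ => trivial)
  exact ⟨m, (EtCore.topIsTerminal X).hom_ext _ _⟩

theorem map_from (G : EtCoh.Ab X) (U : X.Opens) (s : ToType (G.obj.obj (op (EtCoh.top X)))) :
    rsv G (le_top : U ≤ ⊤) (G.obj.map fromTop.op s) = G.obj.map ((EtCore.topIsTerminal X).from (ov U)).op s := by
  rw [rsv_def, map_map, (EtCore.topIsTerminal X).hom_ext (ovHom le_top ≫ fromTop) ((EtCore.topIsTerminal X).from (ov U))]

/-- A frame change. -/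
theorem exists_change {L : X.Modules} {U V : X.Opens} {e : Γ(L, U)} {f : Γ(L, V)} (he : GenOn L e) (hf : GenOn L f) :
    ∃ r : Γ(X, U ⊓ V), IsUnit r ∧ res L (inf_le_left : U ⊓ V ≤ U) e = r • res L (inf_le_right : U ⊓ V ≤ V) f := by
  obtain ⟨r, hr⟩ := (hf (U ⊓ V) inf_le_right).2 (res L inf_le_left e)
  obtain ⟨r', hr'⟩ := (he (U ⊓ V) inf_le_left).2 (res L inf_le_right f)
  dsimp only at hr hr'
  refine ⟨r, IsUnit.of_mul_eq_one r' ((hf (U ⊓ V) inf_le_right).1 ?_), hr.symm⟩
  show (r * r') • res L inf_le_right f = (1 : Γ(X, U ⊓ V)) • res L inf_le_right f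
  rw [one_smul, mul_comm, mul_smul, hr, hr']

theorem subsingleton_of_pic (h : ∀ L : X.Modules, PicF.IsInvertible L → Nonempty (L ≅ Coh.structureModule X)) :
    Subsingleton (EtCoh.H X (EtCoh.Gm X) 1) := by
  refine subsingleton_of_forall_eq 0 fun c => ?_
  let ip := (EnoughInjectives.presentation (EtCoh.Gm X)).some
  let S := ShortComplex.mk ip.f (cokernel.π ip.f) (cokernel.condition _)
  have hS : S.ShortExact := { exact := ShortComplex.exact_of_g_is_cokernel _ (cokernelIsCokernel _) }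
  haveI : Injective S.X₂ := ip.injective
  haveI : Mono S.f := hS.mono_f
  obtain ⟨s, rfl⟩ := Ext.covariant_sequence_exact₁ _ hS (n₁ := 1) c (Ext.eq_zero_of_injective _) (n₀ := 0) rfl
  obtain ⟨s, rfl⟩ := (Ext.mk₀_bijective _ _).2 s
  let T := EtCoh.top X
  let σ : ToType (S.X₃.obj.obj (op T)) := (toConst T ≫ s).hom.app (op T) (gen T)
  have hloc : ∀ x : X, ∃ U : X.Opens, x ∈ U ∧ ∃ b : ToType (S.X₂.obj.obj (op (ov U))),
      S.g.hom.app _ b = S.X₃.obj.map ((EtCore.topIsTerminal X).from (ov U)).op σ := fun x => by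
    obtain ⟨V', φ, hφ, hxr, d, hd⟩ := exists_lift_open ip.f (cokernel.π ip.f) (cokernel.condition _) hS T σ x
    haveI := hφ
    refine ⟨φ.left.opensRange, hxr, ?_⟩
    let θ : ov φ.left.opensRange ⟶ V' := MorphismProperty.Over.homMk φ.left.isoOpensRange.inv (by
      show φ.left.isoOpensRange.inv ≫ V'.hom = φ.left.opensRange.ι
      rw [Iso.inv_comp_eq, Scheme.Hom.isoOpensRange_hom_ι]
      exact (MorphismProperty.Over.w φ).symm.trans (Category.comp_id _))
    refine ⟨S.X₂.obj.map θ.op d, ?_⟩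
    rw [NatTrans.naturality_apply S.g.hom θ.op d, ← (EtCore.topIsTerminal X).hom_ext (θ ≫ φ)
      ((EtCore.topIsTerminal X).from (ov φ.left.opensRange)), ← map_map]
    exact congrArg _ hd
  choose U hxU b hb using hloc
  have hu : ∀ x y, ∃ a : ToType ((EtCoh.Gm X).obj.obj (op (ov (U x ⊓ U y)))),
      S.f.hom.app _ a = rsv S.X₂ inf_le_right (b y) - rsv S.X₂ inf_le_left (b x) := fun x y => by
    refine exists_preimage_app hS _ _ ?_
    rw [map_sub, rsv_app, rsv_app, hb, hb, rsv_def, rsv_def, map_map, map_map, sub_eq_zero]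
    exact congrArg (fun m => S.X₃.obj.map m.op σ) ((EtCore.topIsTerminal X).hom_ext _ _)
  choose a ha using hu
  have hinj : ∀ W : X.Etale, Function.Injective (S.f.hom.app (op W)) := injective_app S.f
  have haa : ∀ x, a x x = 0 := fun x => hinj _ (by
    rw [ha, map_zero]
    simp only [rsv_def, hom_ov_ext (ovHom (inf_le_left : U x ⊓ U x ≤ U x)) (ovHom inf_le_right), sub_self])
  have hac : IsCocycle (EtCoh.Gm X) U a := fun x y z => hinj _ (by
    rw [map_add, rsv_app, rsv_app, rsv_app, ha, ha, ha]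
    simp only [map_sub, rsv_rsv]
    abel)
  obtain ⟨M, hM, e, he, heC⟩ := exists_twist (V := U) (C := fun x y => uVal _ (a x y)) (fun y => ⟨y, hxU y⟩)
    (fun x => by rw [haa, uVal_zero]) (fun x y z => by
      have h1 := congrArg (uVal _) (hac x y z)
      rw [uVal_add, uVal_rsv, uVal_rsv, uVal_rsv] at h1
      exact h1)
  obtain ⟨t⟩ := h M hM
  obtain ⟨f, hf⟩ : ∃ f : Γ(M, (⊤ : X.Opens)), GenOn M f :=
    ⟨t.inv.app ⊤ (show Γ(Coh.structureModule X, ⊤) from (1 : Γ(X, ⊤))), fun V hV => by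
      have h1 : ∀ r : Γ(X, V), r • res M hV (t.inv.app ⊤ (show Γ(Coh.structureModule X, ⊤) from (1 : Γ(X, ⊤)))) =
          t.inv.app V (show Γ(Coh.structureModule X, V) from r) := fun r => by
        refine Eq.trans ?_ (congrArg (t.inv.app V) (show (r • res (Coh.structureModule X) hV
          (show Γ(Coh.structureModule X, ⊤) from (1 : Γ(X, ⊤)))) = r from
            ((congrArg (r * ·) (map_one (X.presheaf.map (homOfLE hV).op).hom)).trans (mul_one r))))
        rw [QCohLib.app_smul]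
        exact congrArg (r • ·) (QCohLib.app_map t.inv (homOfLE hV) _).symm
      simp only [h1]
      exact ConcreteCategory.bijective_of_isIso (t.inv.app V)⟩
  choose r hr using fun x => (hf (U x) le_top).2 (e x)
  dsimp only at hr
  have hru : ∀ x, IsUnit (r x) := fun x => by
    obtain ⟨r', hr'⟩ := (he x (U x) le_rfl).2 (res M le_top f)
    dsimp only at hr'
    rw [AmpleLib.res_refl] at hr'
    refine IsUnit.of_mul_eq_one r' ((hf (U x) le_top).1 ?_)
    show (r x * r') • res M le_top f = (1 : Γ(X, U x)) • res M le_top f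
    rw [one_smul, mul_comm, mul_smul, hr, hr']
  let q : ∀ x, ToType ((EtCoh.Gm X).obj.obj (op (ov (U x)))) := fun x => uMk (U x) (hru x)
  have hq : ∀ x y, rsv (EtCoh.Gm X) inf_le_left (q x) = a x y + rsv (EtCoh.Gm X) inf_le_right (q y) := fun x y => by
    refine uVal_injective _ ((hf _ le_top).1 ?_)
    dsimp only
    rw [uVal_add, uVal_rsv, uVal_rsv, uVal_uMk, uVal_uMk]
    have h1 := heC x y
    rw [← hr x, ← hr y, AmpleLib.res_smul, AmpleLib.res_smul, AmpleLib.res_res, AmpleLib.res_res, smul_smul] at h1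
    exact h1
  let b' : ∀ x, ToType (S.X₂.obj.obj (op (ov (U x)))) := fun x => b x + S.f.hom.app _ (q x)
  obtain ⟨t', ht', -⟩ := exists_glue S.X₂ U ⊤ (fun _ => le_top) (fun y _ => ⟨y, hxU y⟩) b' fun x y => by
    simp only [b', map_add]
    rw [← rsv_app, ← rsv_app, hq x y, map_add, ha x y]
    abel
  obtain ⟨m, hm⟩ := exists_toTop (X := X)
  let t₀ := S.X₂.obj.map m.op t'
  have hgt : S.g.hom.app _ t₀ = σ := by
    have h1 : S.g.hom.app _ t' = S.X₃.obj.map fromTop.op σ :=
      ext_cover S.X₃ U ⊤ (fun _ => le_top) (fun y _ => ⟨y, hxU y⟩) fun x => by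
        rw [← rsv_app, ht' x, map_from]
        show S.g.hom.app _ (b x + S.f.hom.app _ (q x)) = _
        have h0 : S.g.hom.app _ (S.f.hom.app _ (q x)) = 0 := by
          show (S.f ≫ S.g).hom.app _ (q x) = 0
          rw [S.zero]
          rfl
        rw [map_add, h0, add_zero, hb]
    show S.g.hom.app _ (S.X₂.obj.map m.op t') = σ
    rw [NatTrans.naturality_apply S.g.hom m.op t', h1, map_map, hm, op_id, CategoryTheory.Functor.map_id]
    rfl
  haveI := isIso_toConst_top X
  have hs : s = (inv (toConst T) ≫ desc T t₀) ≫ S.g := by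
    rw [Category.assoc, ← cancel_epi (toConst T), IsIso.hom_inv_id_assoc]
    refine free_hom_ext _ ?_
    show σ = S.g.hom.app _ ((desc T t₀).hom.app _ (gen T))
    rw [desc_gen, hgt]
  rw [hs, ← Ext.mk₀_comp_mk₀, Ext.comp_assoc_of_second_deg_zero, hS.comp_extClass, Ext.comp_zero]

theorem pic_of_subsingleton (h : Subsingleton (EtCoh.H X (EtCoh.Gm X) 1)) (L : X.Modules)
    (hL : PicF.IsInvertible L) : Nonempty (L ≅ Coh.structureModule X) := by
  choose U e hxU he using fun x : X => TwistLib.exists_genOn hL x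
  choose g hgu hg using fun x y : X => exists_change (he x) (he y)
  let a : ∀ x y, ToType ((EtCoh.Gm X).obj.obj (op (ov (U x ⊓ U y)))) := fun x y => uMk _ (hgu x y)
  let ip := (EnoughInjectives.presentation (EtCoh.Gm X)).some
  let S := ShortComplex.mk ip.f (cokernel.π ip.f) (cokernel.condition _)
  have hS : S.ShortExact := { exact := ShortComplex.exact_of_g_is_cokernel _ (cokernelIsCokernel _) }
  haveI : Injective S.X₂ := ip.injective
  haveI : Mono S.f := hS.mono_f
  have hac : IsCocycle (EtCoh.Gm X) U a := fun x y z => uVal_injective _ (by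
    refine ((he z) _ inf_le_right).1 ?_
    dsimp only
    rw [uVal_add, uVal_rsv, uVal_rsv, uVal_rsv, uVal_uMk, uVal_uMk, uVal_uMk, mul_smul]
    have h1 := congrArg (res L (inf_le_left : (U x ⊓ U y) ⊓ U z ≤ U x ⊓ U y)) (hg x y)
    have h2 := congrArg (res L (inf_le_inf_right (U z) inf_le_right : (U x ⊓ U y) ⊓ U z ≤ U y ⊓ U z)) (hg y z)
    have h3 := congrArg (res L (inf_le_inf_right (U z) inf_le_left : (U x ⊓ U y) ⊓ U z ≤ U x ⊓ U z)) (hg x z)
    rw [AmpleLib.res_smul, AmpleLib.res_res, AmpleLib.res_res] at h1 h2 h3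
    rw [← h2, ← h3, h1])
  have hac' : IsCocycle S.X₂ U fun x y => S.f.hom.app _ (a x y) := fun x y z => by
    rw [← rsv_app, ← rsv_app, ← rsv_app, ← map_add, hac x y z]
  obtain ⟨b, hb⟩ := hac'.exists_coboundary
  obtain ⟨σ', hσ', -⟩ := exists_glue S.X₃ U ⊤ (fun _ => le_top) (fun y _ => ⟨y, hxU y⟩)
    (fun x => S.g.hom.app _ (b x)) fun x y => by
      have h1 := congrArg (S.g.hom.app _) (hb x y)
      have h0 : S.g.hom.app _ (S.f.hom.app _ (a x y)) = 0 := by
        show (S.f ≫ S.g).hom.app _ (a x y) = 0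
        rw [S.zero]
        rfl
      rw [map_sub, rsv_app, rsv_app, h0, sub_eq_zero] at h1
      exact h1.symm
  obtain ⟨m, hm⟩ := exists_toTop (X := X)
  let T := EtCoh.top X
  haveI := isIso_toConst_top X
  obtain ⟨w, hw⟩ := Ext.covariant_sequence_exact₃ _ hS
    (Ext.mk₀ (inv (toConst T) ≫ desc T (S.X₃.obj.map m.op σ'))) (n₁ := 1) (zero_add 1)
    (Subsingleton.elim (α := EtCoh.H X (EtCoh.Gm X) 1) _ _)
  obtain ⟨w, rfl⟩ := (Ext.mk₀_bijective _ S.X₂).2 w
  rw [Ext.mk₀_comp_mk₀] at hw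
  have hw' := (Ext.mk₀_bijective _ _).1 hw
  let t₀ := (toConst T ≫ w).hom.app (op T) (gen T)
  have ht₀ : S.g.hom.app _ t₀ = S.X₃.obj.map m.op σ' := by
    show ((toConst T ≫ w) ≫ S.g).hom.app (op T) (gen T) = _
    rw [Category.assoc, hw', IsIso.hom_inv_id_assoc, desc_gen]
  let t := S.X₂.obj.map fromTop.op t₀
  have ht : S.g.hom.app _ t = σ' := by
    rw [NatTrans.naturality_apply S.g.hom fromTop.op t₀, ht₀, map_map, hom_ov_ext (fromTop ≫ m) (𝟙 _), op_id,
      CategoryTheory.Functor.map_id]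
    rfl
  have hp : ∀ x, ∃ p : ToType ((EtCoh.Gm X).obj.obj (op (ov (U x)))),
      S.f.hom.app _ p = b x - rsv S.X₂ le_top t := fun x => by
    refine exists_preimage_app hS _ _ ?_
    rw [map_sub, rsv_app, ht, hσ' x, sub_self]
  choose p hp using hp
  let e' : ∀ x, Γ(L, U x) := fun x => uVal (U x) (p x) • e x
  obtain ⟨f, hf, -⟩ : ∃ f : Γ(L, (⊤ : X.Opens)), GenOn L f ∧ ∀ x, res L le_top f = e' x := by
    let Sh : TopCat.Sheaf AddCommGrpCat.{u} X.toTopCat := (QCohLib.toAbF X).obj L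
    obtain ⟨f, hf, -⟩ := TopCat.Sheaf.existsUnique_gluing' Sh U ⊤ (fun _ => homOfLE le_top)
      (fun x _ => TopologicalSpace.Opens.mem_iSup.2 ⟨x, hxU x⟩) e' fun x y => by
        show res L (inf_le_left : U x ⊓ U y ≤ U x) (e' x) = res L (inf_le_right : U x ⊓ U y ≤ U y) (e' y)
        simp only [e']
        rw [AmpleLib.res_smul, AmpleLib.res_smul, hg x y, smul_smul]
        congr 1
        rw [← uVal_rsv, ← uVal_rsv, show g x y = uVal _ (a x y) from (uVal_uMk _ _).symm, ← uVal_add]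
        refine congrArg (uVal _) (injective_app S.f _ ?_)
        have h2 : rsv S.X₂ inf_le_right (b y) - rsv S.X₂ inf_le_left (b x) = S.f.hom.app _ (a x y) := hb x y
        rw [map_add, rsv_app, rsv_app, hp, hp, map_sub, map_sub, rsv_rsv, rsv_rsv, ← h2]
        abel
    refine ⟨f, TwistLib.genOn_of_genAt fun x _ => ?_, hf⟩
    refine (AmpleLib.genAt_res (le_top : U x ≤ ⊤) f (hxU x)).1 ?_
    rw [show res L (le_top : U x ≤ ⊤) f = e' x from hf x]
    exact (AmpleLib.genAt_smul_iff _ (e x) (hxU x) ((he x).genAt (hxU x))).2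
      (by rw [X.basicOpen_of_isUnit (isUnit_uVal _ _)]; exact hxU x)
  exact ⟨(@asIso _ _ _ _ _ (AmpleLib.isIso_unitHom f hf)).symm⟩

end

end H90Lib
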