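import Groth.Agent.H90Lib.Local
import Groth.Agent.EtSliceLib.MV

/-!
# Sheaves on the étale site over the Zariski opens
-/

set_option autoImplicit false
set_option linter.unusedSectionVars false
set_option linter.style.haveILetI false
set_option backward.isDefEq.respectTransparency false
set_option backward.isDefEq.respectTransparency.types false
set_option synthInstance.maxHeartbeats 400000
set_option maxHeartbeats 1000000

universe u

open CategoryTheory CategoryTheory.Limits CategoryTheory.Abelian AlgebraicGeometry Opposite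
open Groth.Agent.EtShLib EtSliceLib

namespace H90Lib

noncomputable section

variable {X : Scheme.{u}}

/-- An open as an étale object. -/
abbrev ov (U : X.Opens) : X.Etale := MorphismProperty.Over.mk ⊤ U.ι (inferInstanceAs (AlgebraicGeometry.Etale U.ι))

/-- Inclusion of opens. -/
abbrev ovHom {V U : X.Opens} (h : V ≤ U) : ov V ⟶ ov U := MorphismProperty.Over.homMk (X.homOfLE h) (X.homOfLE_ι h)

theorem hom_ov_ext {Z : X.Etale} {U : X.Opens} (p q : Z ⟶ ov U) : p = q :=
  MorphismProperty.Over.Hom.ext ((cancel_mono U.ι).1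
    ((MorphismProperty.Over.w p).trans (MorphismProperty.Over.w q).symm))

theorem exists_hom_ov {Z : X.Etale} {U : X.Opens} (h : Set.range Z.hom.base ⊆ (U : Set X)) : Nonempty (Z ⟶ ov U) :=
  ⟨MorphismProperty.Over.homMk (IsOpenImmersion.lift U.ι Z.hom (h.trans_eq U.range_ι.symm))
    (IsOpenImmersion.lift_fac _ _ _)⟩

theorem range_le_of_hom {Z : X.Etale} {U : X.Opens} (p : Z ⟶ ov U) : Set.range Z.hom.base ⊆ (U : Set X) := by
  rintro _ ⟨z, rfl⟩
  rw [← MorphismProperty.Over.w p]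
  exact (p.left z).2

/-- Restriction. -/
def rsv (G : EtCoh.Ab X) {V U : X.Opens} (h : V ≤ U) :
    ToType (G.obj.obj (op (ov U))) →+ ToType (G.obj.obj (op (ov V))) := (G.obj.map (ovHom h).op).hom

theorem rsv_def (G : EtCoh.Ab X) {V U : X.Opens} (h : V ≤ U) (s : ToType (G.obj.obj (op (ov U)))) :
    rsv G h s = G.obj.map (ovHom h).op s := rfl

theorem rsv_rsv (G : EtCoh.Ab X) {W V U : X.Opens} (h : V ≤ U) (h' : W ≤ V) (s : ToType (G.obj.obj (op (ov U)))) :
    rsv G h' (rsv G h s) = rsv G (h'.trans h) s := by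
  rw [rsv_def, rsv_def, rsv_def, map_map, hom_ov_ext (ovHom h' ≫ ovHom h) (ovHom (h'.trans h))]

theorem rsv_refl (G : EtCoh.Ab X) {U : X.Opens} (h : U ≤ U) (s : ToType (G.obj.obj (op (ov U)))) :
    rsv G h s = s := by
  rw [rsv_def, hom_ov_ext (ovHom h) (𝟙 (ov U)), op_id, CategoryTheory.Functor.map_id]
  rfl

theorem rsv_app {G Q : EtCoh.Ab X} (g : G ⟶ Q) {V U : X.Opens} (h : V ≤ U) (s : ToType (G.obj.obj (op (ov U)))) :
    g.hom.app _ (rsv G h s) = rsv Q h (g.hom.app _ s) :=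
  NatTrans.naturality_apply g.hom (ovHom h).op s

/-- Compatible sections over opens glue uniquely. -/
theorem exists_glue (G : EtCoh.Ab X) {κ : Type u} (U : κ → X.Opens) (T : X.Opens) (hle : ∀ i, U i ≤ T)
    (hcov : ∀ x ∈ T, ∃ i, x ∈ U i) (s : ∀ i, ToType (G.obj.obj (op (ov (U i)))))
    (h : ∀ i j, rsv G (inf_le_left : U i ⊓ U j ≤ U i) (s i) = rsv G (inf_le_right : U i ⊓ U j ≤ U j) (s j)) :
    ∃! t : ToType (G.obj.obj (op (ov T))), ∀ i, rsv G (hle i) t = s i := by
  let π : ∀ i, ov (U i) ⟶ ov T := fun i => ovHom (hle i)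
  have hmem : Sieve.ofArrows (fun i => ov (U i)) π ∈ X.smallEtaleTopology (ov T) := by
    rw [Scheme.ofArrows_mem_smallEtaleTopology_iff]
    refine Set.eq_univ_of_forall fun y => ?_
    obtain ⟨i, hi⟩ := hcov _ y.2
    refine Set.mem_iUnion.2 ⟨i, ⟨⟨y.1, hi⟩, Subtype.ext ?_⟩⟩
    exact congrArg (fun m : (U i).toScheme ⟶ X => m ⟨y.1, hi⟩) (X.homOfLE_ι (hle i))
  have hsh : (Presieve.ofArrows (fun i => ov (U i)) π).IsSheafFor (G.obj ⋙ forget AddCommGrpCat.{u + 1}) := by
    rw [Presieve.isSheafFor_iff_generate]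
    exact ((isSheaf_iff_isSheaf_of_type _ _).1
      (GrothendieckTopology.HasSheafCompose.isSheaf G.obj G.property)) _ hmem
  exact (Presieve.isSheafFor_arrows_iff _ _).1 hsh s (fun i j Z p q _ => by
    obtain ⟨r⟩ := exists_hom_ov (Z := Z) (U := U i ⊓ U j) fun y hy => ⟨range_le_of_hom p hy, range_le_of_hom q hy⟩
    show G.obj.map p.op (s i) = G.obj.map q.op (s j)
    rw [hom_ov_ext p (r ≫ ovHom inf_le_left), hom_ov_ext q (r ≫ ovHom inf_le_right), ← map_map, ← map_map]
    exact congrArg _ (h i j))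

theorem ext_cover (G : EtCoh.Ab X) {κ : Type u} (U : κ → X.Opens) (T : X.Opens) (hle : ∀ i, U i ≤ T)
    (hcov : ∀ x ∈ T, ∃ i, x ∈ U i) {a b : ToType (G.obj.obj (op (ov T)))}
    (h : ∀ i, rsv G (hle i) a = rsv G (hle i) b) : a = b :=
  (exists_glue G U T hle hcov (fun i => rsv G (hle i) a) fun i j => by rw [rsv_rsv, rsv_rsv]).unique
    (fun _ => rfl) fun i => (h i).symm

theorem surjective_rsv (I : EtCoh.Ab X) [Injective I] {V U : X.Opens} (h : V ≤ U) :
    Function.Surjective (rsv I h) := fun s => by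
  haveI : Mono (X.homOfLE h) := inferInstance
  haveI : Mono (ovHom h).left := ‹Mono (X.homOfLE h)›
  haveI : Mono (freeMap (ovHom h)) := mono_freeMap _
  refine ⟨(Injective.factorThru (desc (ov V) s) (freeMap (ovHom h))).hom.app _ (gen (ov U)), ?_⟩
  rw [rsv_def, ← freeMap_app, Injective.comp_factorThru, desc_gen]

theorem exists_maximal_clique {E : Type*} (R : E → E → Prop) :
    ∃ Γ : Set E, (∀ p ∈ Γ, ∀ q ∈ Γ, R p q) ∧
      ∀ e, (∀ p ∈ Γ, R p e) → (∀ p ∈ Γ, R e p) → R e e → e ∈ Γ := by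
  obtain ⟨Γ, hΓ⟩ := zorn_subset {Γ : Set E | ∀ p ∈ Γ, ∀ q ∈ Γ, R p q} fun C hC hch =>
    ⟨⋃₀ C, fun p hp q hq => by
      obtain ⟨A, hA, hpA⟩ := hp
      obtain ⟨B, hB, hqB⟩ := hq
      rcases hch.total hA hB with h | h
      · exact hC hB p (h hpA) q hqB
      · exact hC hA p hpA q (h hqB), fun A hA => Set.subset_sUnion_of_mem hA⟩
  refine ⟨Γ, hΓ.prop, fun e h1 h2 h3 => hΓ.le_of_ge (y := insert e Γ) ?_ (Set.subset_insert _ _) (Set.mem_insert _ _)⟩
  rintro p (rfl | hp) q (rfl | hq)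
  · exact h3
  · exact h2 q hq
  · exact h1 p hp
  · exact hΓ.prop p hp q hq

theorem exists_family.{v, w} {κ : Type v} {A : κ → Type w} (R : ∀ i, A i → ∀ j, A j → Prop)
    (hself : ∀ i a, R i a i a) (hsymm : ∀ i a j b, R i a j b → R j b i a) (heq : ∀ i a b, R i a i b → b = a)
    (hext : ∀ (π : Type v) (idx : π → κ) (β : ∀ p, A (idx p)),
      (∀ p q, R (idx p) (β p) (idx q) (β q)) → ∀ k, ∃ b, ∀ p, R (idx p) (β p) k b) :
    ∃ b : ∀ i, A i, ∀ i j, R i (b i) j (b j) := by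
  classical
  obtain ⟨Γ, hcons, hmax⟩ := exists_maximal_clique fun p q : Σ i : κ, A i => R p.1 p.2 q.1 q.2
  have hall : ∀ k, ∃ b, (⟨k, b⟩ : Σ i : κ, A i) ∈ Γ := fun k => by
    let P := {i : κ // ∃ b, (⟨i, b⟩ : Σ i : κ, A i) ∈ Γ}
    choose β hβ using fun p : P => p.2
    obtain ⟨b, hb⟩ := hext P Subtype.val β (fun p q => hcons ⟨p.1, β p⟩ (hβ p) ⟨q.1, β q⟩ (hβ q)) k
    have hnew : ∀ p ∈ Γ, R p.1 p.2 k b := fun p hp => by
      obtain ⟨i, a⟩ := p
      let p' : P := ⟨i, a, hp⟩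
      have e : β p' = a := heq _ _ _ (hcons ⟨i, a⟩ hp ⟨i, β p'⟩ (hβ p'))
      have h := hb p'
      rw [e] at h
      exact h
    exact ⟨b, hmax ⟨k, b⟩ hnew (fun p hp => hsymm _ _ _ _ (hnew p hp)) (hself k b)⟩
  choose b hb using hall
  exact ⟨b, fun i j => hcons _ (hb i) _ (hb j)⟩

section Cocycle

variable (I : EtCoh.Ab X) {κ : Type u} (U : κ → X.Opens)

/-- The pairs of sections compatible with a cocycle. -/
def Compat (c : ∀ i j, ToType (I.obj.obj (op (ov (U i ⊓ U j))))) (i : κ) (a : ToType (I.obj.obj (op (ov (U i)))))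
    (j : κ) (b : ToType (I.obj.obj (op (ov (U j))))) : Prop :=
  rsv I (inf_le_right : U i ⊓ U j ≤ U j) b - rsv I (inf_le_left : U i ⊓ U j ≤ U i) a = c i j

/-- The cocycle identity. -/
def IsCocycle (c : ∀ i j, ToType (I.obj.obj (op (ov (U i ⊓ U j))))) : Prop :=
  ∀ i j k, rsv I (inf_le_left : (U i ⊓ U j) ⊓ U k ≤ U i ⊓ U j) (c i j) +
      rsv I (inf_le_inf_right (U k) inf_le_right : (U i ⊓ U j) ⊓ U k ≤ U j ⊓ U k) (c j k) =
    rsv I (inf_le_inf_right (U k) inf_le_left : (U i ⊓ U j) ⊓ U k ≤ U i ⊓ U k) (c i k)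

variable {I U} {c : ∀ i j, ToType (I.obj.obj (op (ov (U i ⊓ U j))))}

theorem IsCocycle.self (hc : IsCocycle I U c) (i : κ) : c i i = 0 := by
  let e : U i ⊓ U i ≤ (U i ⊓ U i) ⊓ U i := le_inf le_rfl inf_le_left
  have := congrArg (rsv I e) (hc i i i)
  simp only [map_add, rsv_rsv, rsv_refl] at this
  exact left_eq_add.1 this.symm

theorem IsCocycle.skew (hc : IsCocycle I U c) (i j : κ) :
    rsv I (le_inf inf_le_right inf_le_left : U j ⊓ U i ≤ U i ⊓ U j) (c i j) = -c j i := by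
  let e : U j ⊓ U i ≤ (U j ⊓ U i) ⊓ U j := le_inf le_rfl inf_le_left
  have h := congrArg (rsv I e) (hc j i j)
  simp only [map_add, rsv_rsv, rsv_refl, hc.self j, map_zero] at h
  exact eq_neg_of_add_eq_zero_right h

theorem IsCocycle.compat_self (hc : IsCocycle I U c) (i : κ) (a : ToType (I.obj.obj (op (ov (U i))))) :
    Compat I U c i a i a := by
  unfold Compat
  rw [hc.self, sub_eq_zero]

theorem IsCocycle.compat_symm (hc : IsCocycle I U c) {i j : κ} {a : ToType (I.obj.obj (op (ov (U i))))}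
    {b : ToType (I.obj.obj (op (ov (U j))))} (h : Compat I U c i a j b) : Compat I U c j b i a := by
  unfold Compat at h ⊢
  have h' := congrArg (rsv I (le_inf inf_le_right inf_le_left : U j ⊓ U i ≤ U i ⊓ U j)) h
  rw [map_sub, rsv_rsv, rsv_rsv, hc.skew i j] at h'
  rw [← neg_neg (c j i), ← h', neg_sub]

theorem IsCocycle.eq_of_compat (hc : IsCocycle I U c) {i : κ} {a b : ToType (I.obj.obj (op (ov (U i))))}
    (h : Compat I U c i a i b) : b = a := by
  unfold Compat at h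
  rw [hc.self, sub_eq_zero] at h
  have h' := congrArg (rsv I (le_inf le_rfl le_rfl : U i ≤ U i ⊓ U i)) h
  rwa [rsv_rsv, rsv_rsv, rsv_refl, rsv_refl] at h'

theorem IsCocycle.exists_extend [Injective I] (hc : IsCocycle I U c) {π : Type u} (idx : π → κ)
    (β : ∀ p, ToType (I.obj.obj (op (ov (U (idx p))))))
    (hβ : ∀ p q, Compat I U c (idx p) (β p) (idx q) (β q)) (k : κ) :
    ∃ b, ∀ p, Compat I U c (idx p) (β p) k b := by
  obtain ⟨t, ht, -⟩ := exists_glue I (fun p => U (idx p) ⊓ U k) (⨆ p, U (idx p) ⊓ U k)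
    (fun p => le_iSup (fun p => U (idx p) ⊓ U k) p) (fun x hx => TopologicalSpace.Opens.mem_iSup.1 hx)
    (fun p => rsv I inf_le_left (β p) + c (idx p) k) fun p q => by
      let T := (U (idx p) ⊓ U k) ⊓ (U (idx q) ⊓ U k)
      let eT : T ≤ (U (idx p) ⊓ U (idx q)) ⊓ U k :=
        le_inf (le_inf (inf_le_left.trans inf_le_left) (inf_le_right.trans inf_le_left)) (inf_le_left.trans inf_le_right)
      have h1 := congrArg (rsv I eT) (hc (idx p) (idx q) k)
      have h2 := congrArg (rsv I (eT.trans inf_le_left)) (hβ p q)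
      simp only [map_add, map_sub, rsv_rsv] at h1 h2 ⊢
      rw [← h2] at h1
      rw [← h1]
      abel
  obtain ⟨b, hb⟩ := surjective_rsv I (iSup_le fun p => inf_le_right : (⨆ p, U (idx p) ⊓ U k) ≤ U k) t
  refine ⟨b, fun p => ?_⟩
  have h := ht p
  rw [← hb, rsv_rsv] at h
  unfold Compat
  rw [h]
  abel

/-- A cocycle in an injective sheaf on an open cover is a coboundary. -/
theorem IsCocycle.exists_coboundary [Injective I] (hc : IsCocycle I U c) :
    ∃ b : ∀ i, ToType (I.obj.obj (op (ov (U i)))), ∀ i j, Compat I U c i (b i) j (b j) :=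
  exists_family (A := fun i => ToType (I.obj.obj (op (ov (U i))))) (Compat I U c)
    (fun i a => hc.compat_self i a) (fun i a j b h => hc.compat_symm h) (fun i a b h => hc.eq_of_compat h)
    (fun π idx β hβ k => hc.exists_extend idx β hβ k)

end Cocycle

end

end H90Lib
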