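import Groth.Agent.EtAcycLib.Local
import Groth.Agent.H90Lib.Alg
import Groth.Prelude.Def_EtGm
import Mathlib.RingTheory.Etale.Basic
import Mathlib.RingTheory.RingHom.Etale
import Mathlib.AlgebraicGeometry.Morphisms.Etale

/-!
# Sections lift Zariski-locally along surjections with kernel `G_m`
-/

set_option autoImplicit false
set_option linter.unusedSectionVars false
set_option linter.style.haveILetI false
set_option backward.isDefEq.respectTransparency false
set_option backward.isDefEq.respectTransparency.types false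
set_option synthInstance.maxHeartbeats 400000
set_option maxHeartbeats 1000000

universe u

open CategoryTheory CategoryTheory.Limits CategoryTheory.Abelian AlgebraicGeometry Opposite TensorProduct
open Groth.Agent.EtShLib EtSliceLib

namespace H90Lib

noncomputable section

variable {X : Scheme.{u}} {A : Type u} [CommRing A] (ι : Spec (CommRingCat.of A) ⟶ X) [AlgebraicGeometry.Etale ι]

/-- An étale algebra over an étale affine chart, as an étale object. -/
def aff (R : Type u) [CommRing R] [Algebra A R] [Algebra.Etale A R] : X.Etale :=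
  MorphismProperty.Over.mk ⊤ (Spec.map (CommRingCat.ofHom (algebraMap A R)) ≫ ι)
    (haveI : AlgebraicGeometry.Etale (Spec.map (CommRingCat.ofHom (algebraMap A R))) :=
      (HasRingHomProperty.Spec_iff (P := @AlgebraicGeometry.Etale)).2 (RingHom.etale_algebraMap.2 inferInstance)
    inferInstance)

/-- An algebra map as a map of étale objects. -/
def affMap {R R' : Type u} [CommRing R] [Algebra A R] [Algebra.Etale A R] [CommRing R'] [Algebra A R']
    [Algebra.Etale A R'] (φ : R →ₐ[A] R') : aff ι R' ⟶ aff ι R :=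
  MorphismProperty.Over.homMk (Spec.map (CommRingCat.ofHom φ.toRingHom)) (by
    show Spec.map _ ≫ Spec.map (CommRingCat.ofHom (algebraMap A R)) ≫ ι =
      Spec.map (CommRingCat.ofHom (algebraMap A R')) ≫ ι
    rw [← Spec.map_comp_assoc, ← CommRingCat.ofHom_comp]
    exact congrArg (fun c => Spec.map (CommRingCat.ofHom c) ≫ ι) φ.comp_algebraMap)

theorem affMap_comp {R R' R'' : Type u} [CommRing R] [Algebra A R] [Algebra.Etale A R] [CommRing R'] [Algebra A R']
    [Algebra.Etale A R'] [CommRing R''] [Algebra A R''] [Algebra.Etale A R''] (φ : R →ₐ[A] R') (ψ : R' →ₐ[A] R'') :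
    affMap ι ψ ≫ affMap ι φ = affMap ι (ψ.comp φ) :=
  MorphismProperty.Over.Hom.ext (by
    show Spec.map _ ≫ Spec.map _ = Spec.map (CommRingCat.ofHom (ψ.comp φ).toRingHom)
    rw [← Spec.map_comp]
    rfl)

/-- Units as sections of `G_m`. -/
def affSec {R : Type u} [CommRing R] [Algebra A R] [Algebra.Etale A R] (x : Rˣ) :
    ToType ((EtCoh.Gm X).obj.obj (op (aff ι R))) :=
  ULift.up (Additive.ofMul (α := Γ(Spec (CommRingCat.of R), ⊤)ˣ)
    (Units.map (Scheme.ΓSpecIso (CommRingCat.of R)).inv.hom.toMonoidHom x))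

theorem affSec_mul {R : Type u} [CommRing R] [Algebra A R] [Algebra.Etale A R] (x y : Rˣ) :
    affSec ι (x * y) = affSec ι x + affSec ι y :=
  congrArg (fun t => ULift.up (Additive.ofMul t)) (map_mul _ x y)

theorem affSec_bijective (R : Type u) [CommRing R] [Algebra A R] [Algebra.Etale A R] :
    Function.Bijective (affSec ι (R := R)) := by
  refine ULift.up_bijective.comp (Additive.ofMul.bijective.comp ?_)
  exact (Units.mapEquiv (Scheme.ΓSpecIso (CommRingCat.of R)).symm.commRingCatIsoToRingEquiv.toMulEquiv).bijective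

theorem map_affSec {R R' : Type u} [CommRing R] [Algebra A R] [Algebra.Etale A R] [CommRing R'] [Algebra A R']
    [Algebra.Etale A R'] (φ : R →ₐ[A] R') (x : Rˣ) :
    (EtCoh.Gm X).obj.map (affMap ι φ).op (affSec ι x) = affSec ι (Units.map φ.toRingHom.toMonoidHom x) := by
  refine congrArg (fun t => ULift.up (Additive.ofMul t)) (Units.ext ?_)
  exact (congrArg (fun t : CommRingCat.of R ⟶ _ => t.hom (x : R))
    (Scheme.ΓSpecIso_inv_naturality (CommRingCat.ofHom φ.toRingHom))).symm

theorem eq_of_map_eq (G : EtCoh.Ab X) {R R' : Type u} [CommRing R] [Algebra A R] [Algebra.Etale A R]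
    [CommRing R'] [Algebra A R'] [Algebra.Etale A R'] {R'' : Type u} [CommRing R''] [Algebra A R'']
    [Algebra.Etale A R''] (φ : R →ₐ[A] R') (ψ : R' →ₐ[A] R'') (s : ToType (G.obj.obj (op (aff ι R)))) :
    G.obj.map (affMap ι ψ).op (G.obj.map (affMap ι φ).op s) = G.obj.map (affMap ι (ψ.comp φ)).op s := by
  rw [← affMap_comp, op_comp, Functor.map_comp, ConcreteCategory.comp_apply]

theorem map_map (G : EtCoh.Ab X) {U V W : X.Etale} (f : U ⟶ V) (g : V ⟶ W) (s : ToType (G.obj.obj (op W))) :
    G.obj.map f.op (G.obj.map g.op s) = G.obj.map (f ≫ g).op s := by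
  rw [op_comp, Functor.map_comp, ConcreteCategory.comp_apply]

theorem injective_app {F G : EtCoh.Ab X} (f : F ⟶ G) [Mono f] (U : X.Etale) :
    Function.Injective (f.hom.app (op U)) := by
  intro a b h
  have : desc U a = desc U b := by
    rw [← cancel_mono f]
    refine free_hom_ext U ?_
    show f.hom.app (op U) ((desc U a).hom.app (op U) (gen U)) = f.hom.app (op U) ((desc U b).hom.app (op U) (gen U))
    rw [desc_gen, desc_gen, h]
  rw [← desc_gen U a, this, desc_gen]

theorem exists_preimage_app {S : ShortComplex (EtCoh.Ab X)} (hS : S.ShortExact) (U : X.Etale)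
    (s : ToType (S.X₂.obj.obj (op U))) (h : S.g.hom.app (op U) s = 0) :
    ∃ a : ToType (S.X₁.obj.obj (op U)), S.f.hom.app (op U) a = s := by
  haveI := hS.mono_f
  have h0 : desc U s ≫ S.g = 0 := free_hom_ext U (by
    show S.g.hom.app (op U) ((desc U s).hom.app (op U) (gen U)) = (0 : free U ⟶ S.X₃).hom.app (op U) (gen U)
    rw [desc_gen, h]
    rfl)
  refine ⟨(hS.exact.lift _ h0).hom.app (op U) (gen U), ?_⟩
  show ((hS.exact.lift _ h0) ≫ S.f).hom.app (op U) (gen U) = s
  rw [hS.exact.lift_f, desc_gen]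

theorem lift_of_coboundary {G Q : EtCoh.Ab X} (i : EtCoh.Gm X ⟶ G) (g : G ⟶ Q) (w : i ≫ g = 0)
    {B Af Bf : Type u} [CommRing B] [Algebra A B] [Algebra.Etale A B] [CommRing Af] [Algebra A Af]
    [Algebra.Etale A Af] [CommRing Bf] [Algebra A Bf] [Algebra.Etale A Bf]
    [Algebra.Etale A (B ⊗[A] B)] [Algebra.Etale A (Bf ⊗[A] Bf)]
    (c : ToType (Q.obj.obj (op (aff ι A)))) (e : ToType (G.obj.obj (op (aff ι B))))
    (he : g.hom.app _ e = Q.obj.map (affMap ι (Algebra.ofId A B)).op c) (u : (B ⊗[A] B)ˣ)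
    (ha : i.hom.app _ (affSec ι u) =
      G.obj.map (affMap ι (Algebra.TensorProduct.includeLeft : B →ₐ[A] B ⊗[A] B)).op e -
        G.obj.map (affMap ι (Algebra.TensorProduct.includeRight : B →ₐ[A] B ⊗[A] B)).op e)
    (b : B) (hb : b ⊗ₜ[A] (1 : B) = (u : B ⊗[A] B) * ((1 : B) ⊗ₜ[A] b))
    (j : B →ₐ[A] Bf) (hbu : IsUnit (j b)) (π : Af →ₐ[A] Bf)
    (hπ : Function.Surjective (PrimeSpectrum.comap π.toRingHom)) :
    ∃ d : ToType (G.obj.obj (op (aff ι Af))),
      g.hom.app _ d = Q.obj.map (affMap ι (Algebra.ofId A Af)).op c := by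
  let l : B →ₐ[A] B ⊗[A] B := Algebra.TensorProduct.includeLeft
  let r : B →ₐ[A] B ⊗[A] B := Algebra.TensorProduct.includeRight
  let lf : Bf →ₐ[A] Bf ⊗[A] Bf := Algebra.TensorProduct.includeLeft
  let rf : Bf →ₐ[A] Bf ⊗[A] Bf := Algebra.TensorProduct.includeRight
  let jj : B ⊗[A] B →ₐ[A] Bf ⊗[A] Bf := Algebra.TensorProduct.map j j
  let β : Bfˣ := hbu.unit
  have hβ : Units.map lf.toRingHom.toMonoidHom β =
      Units.map jj.toRingHom.toMonoidHom u * Units.map rf.toRingHom.toMonoidHom β := Units.ext (by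
    show lf (j b) = jj (u : B ⊗[A] B) * rf (j b)
    have := congrArg jj hb
    rw [map_mul] at this
    simpa [lf, rf, jj] using this)
  let d' := G.obj.map (affMap ι j).op e - i.hom.app _ (affSec ι β)
  have hcomp : G.obj.map (affMap ι lf).op d' = G.obj.map (affMap ι rf).op d' := by
    have h1 : i.hom.app _ (affSec ι (Units.map jj.toRingHom.toMonoidHom u)) =
        G.obj.map (affMap ι (jj.comp l)).op e - G.obj.map (affMap ι (jj.comp r)).op e := by
      rw [← map_affSec, NatTrans.naturality_apply i.hom (affMap ι jj).op]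
      erw [ha]
      rw [map_sub, map_map, map_map, affMap_comp, affMap_comp]
    have e1 : jj.comp l = lf.comp j := by ext b; simp [jj, l, lf]
    have e2 : jj.comp r = rf.comp j := by ext b; simp [jj, r, rf]
    rw [e1, e2] at h1
    simp only [d', map_sub, map_map, affMap_comp, ← NatTrans.naturality_apply i.hom, map_affSec]
    rw [hβ, affSec_mul, map_add, h1]
    abel
  let πW : aff ι Bf ⟶ aff ι Af := affMap ι π
  have hmem : Sieve.ofArrows (fun _ : PUnit.{1} => aff ι Bf) (fun _ => πW) ∈ X.smallEtaleTopology (aff ι Af) := by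
    rw [Scheme.ofArrows_mem_smallEtaleTopology_iff]
    refine Set.eq_univ_of_forall fun y => Set.mem_iUnion.2 ⟨PUnit.unit, ?_⟩
    exact hπ y
  have hsh : ∀ F : EtCoh.Ab X, (Presieve.ofArrows (fun _ : PUnit.{1} => aff ι Bf) (fun _ => πW)).IsSheafFor
      (F.obj ⋙ forget AddCommGrpCat.{u + 1}) := fun F => by
    rw [Presieve.isSheafFor_iff_generate]
    exact ((isSheaf_iff_isSheaf_of_type _ _).1
      (GrothendieckTopology.HasSheafCompose.isSheaf F.obj F.property)) _ hmem
  obtain ⟨d, hd, -⟩ := (Presieve.isSheafFor_arrows_iff _ _).1 (hsh G) (fun _ => d') (fun _ _ Z p q hpq => by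
    have hA : p.left ≫ Spec.map (CommRingCat.ofHom (algebraMap A Bf)) =
        q.left ≫ Spec.map (CommRingCat.ofHom (algebraMap A Bf)) := by
      have h := congrArg (fun m : Z ⟶ aff ι Af => m.left ≫ Spec.map (CommRingCat.ofHom (algebraMap A Af))) hpq
      have hc : Spec.map (CommRingCat.ofHom π.toRingHom) ≫ Spec.map (CommRingCat.ofHom (algebraMap A Af)) =
          Spec.map (CommRingCat.ofHom (algebraMap A Bf)) := by
        rw [← Spec.map_comp, ← CommRingCat.ofHom_comp]
        exact congrArg (fun c => Spec.map (CommRingCat.ofHom c)) π.comp_algebraMap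
      have h' : (p.left ≫ Spec.map (CommRingCat.ofHom π.toRingHom)) ≫ Spec.map (CommRingCat.ofHom (algebraMap A Af)) =
          (q.left ≫ Spec.map (CommRingCat.ofHom π.toRingHom)) ≫ Spec.map (CommRingCat.ofHom (algebraMap A Af)) := h
      rwa [Category.assoc, Category.assoc, hc] at h'
    let zz := pullback.lift p.left q.left hA ≫ (pullbackSpecIso A Bf Bf).hom
    have hz1 : zz ≫ Spec.map (CommRingCat.ofHom lf.toRingHom) = p.left := by
      rw [Category.assoc]
      erw [pullbackSpecIso_hom_fst]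
      exact pullback.lift_fst _ _ _
    have hz2 : zz ≫ Spec.map (CommRingCat.ofHom rf.toRingHom) = q.left := by
      rw [Category.assoc]
      erw [pullbackSpecIso_hom_snd]
      exact pullback.lift_snd _ _ _
    let z : Z ⟶ aff ι (Bf ⊗[A] Bf) := MorphismProperty.Over.homMk zz (by
      have hp : p.left ≫ Spec.map (CommRingCat.ofHom (algebraMap A Bf)) ≫ ι = Z.hom := MorphismProperty.Over.w p
      show zz ≫ Spec.map (CommRingCat.ofHom (algebraMap A (Bf ⊗[A] Bf))) ≫ ι = Z.hom
      have hl : Spec.map (CommRingCat.ofHom lf.toRingHom) ≫ Spec.map (CommRingCat.ofHom (algebraMap A Bf)) =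
          Spec.map (CommRingCat.ofHom (algebraMap A (Bf ⊗[A] Bf))) := by
        rw [← Spec.map_comp, ← CommRingCat.ofHom_comp]
        exact congrArg (fun c => Spec.map (CommRingCat.ofHom c)) lf.comp_algebraMap
      rw [← hp, ← hl, ← hz1]
      simp only [Category.assoc])
    have hp : z ≫ affMap ι lf = p := MorphismProperty.Over.Hom.ext hz1
    have hq : z ≫ affMap ι rf = q := MorphismProperty.Over.Hom.ext hz2
    show G.obj.map p.op d' = G.obj.map q.op d'
    rw [← hp, ← hq, ← map_map, ← map_map, hcomp])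
  refine ⟨d, ((hsh Q).isSeparatedFor.ext ?_)⟩
  rintro _ _ ⟨_⟩
  show Q.obj.map πW.op (g.hom.app _ d) = Q.obj.map πW.op (Q.obj.map (affMap ι (Algebra.ofId A Af)).op c)
  rw [← NatTrans.naturality_apply g.hom πW.op d, show G.obj.map πW.op d = d' from hd PUnit.unit, map_map, affMap_comp]
  simp only [d', map_sub]
  have h0 : g.hom.app (op (aff ι Bf)) (i.hom.app (op (aff ι Bf)) (affSec ι β)) = 0 := by
    show (i ≫ g).hom.app (op (aff ι Bf)) (affSec ι β) = 0
    rw [w]
    rfl
  rw [h0, sub_zero, NatTrans.naturality_apply g.hom (affMap ι j).op e, he, map_map, affMap_comp]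
  exact congrArg (fun φ => Q.obj.map (affMap ι φ).op c) (Subsingleton.elim _ _)

theorem exists_lift_aff {G : EtCoh.Ab X} {Q : EtCoh.Ab X} (i : EtCoh.Gm X ⟶ G) (g : G ⟶ Q) (w : i ≫ g = 0)
    (hS : (ShortComplex.mk i g w).ShortExact) (B : Type u) [CommRing B] [Algebra A B] [Algebra.Etale A B]
    [Module.FaithfullyFlat A B] (c : ToType (Q.obj.obj (op (aff ι A))))
    (e : ToType (G.obj.obj (op (aff ι B))))
    (he : g.hom.app _ e = Q.obj.map (affMap ι (Algebra.ofId A B)).op c) (p : PrimeSpectrum A) :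
    ∃ (f : A) (_ : f ∉ p.asIdeal) (d : ToType (G.obj.obj (op (aff ι (Localization.Away f))))),
      g.hom.app _ d = Q.obj.map (affMap ι (Algebra.ofId A (Localization.Away f))).op c := by
  haveI : Mono i := hS.mono_f
  let l : B →ₐ[A] B ⊗[A] B := Algebra.TensorProduct.includeLeft
  let r : B →ₐ[A] B ⊗[A] B := Algebra.TensorProduct.includeRight
  haveI : Algebra.Etale A (B ⊗[A] B) := Algebra.Etale.comp A B (B ⊗[A] B)
  haveI : Algebra.Etale A ((B ⊗[A] B) ⊗[A] B) := Algebra.Etale.comp A (B ⊗[A] B) _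
  have hg0 : g.hom.app _ (G.obj.map (affMap ι l).op e - G.obj.map (affMap ι r).op e) = 0 := by
    rw [map_sub, NatTrans.naturality_apply g.hom (affMap ι l).op e, NatTrans.naturality_apply g.hom (affMap ι r).op e,
      he, map_map, map_map, affMap_comp, affMap_comp, sub_eq_zero]
    exact congrArg (fun φ => Q.obj.map (affMap ι φ).op c) (Subsingleton.elim _ _)
  obtain ⟨a, ha⟩ := exists_preimage_app hS (aff ι (B ⊗[A] B)) _ hg0
  obtain ⟨u, rfl⟩ := (affSec_bijective ι (B ⊗[A] B)).2 a
  have hcoc : p12 A B (u : B ⊗[A] B) * p23 A B (u : B ⊗[A] B) = p13 A B (u : B ⊗[A] B) := by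
    let P12 := Units.map (p12 A B).toRingHom.toMonoidHom u
    let P23 := Units.map (p23 A B).toRingHom.toMonoidHom u
    let P13 := Units.map (p13 A B).toRingHom.toMonoidHom u
    have key : P12 * P23 = P13 := (affSec_bijective ι _).1 (injective_app i _ (by
      rw [affSec_mul, map_add, ← map_affSec, ← map_affSec, ← map_affSec,
        NatTrans.naturality_apply i.hom (affMap ι (p12 A B)).op, NatTrans.naturality_apply i.hom (affMap ι (p23 A B)).op,
        NatTrans.naturality_apply i.hom (affMap ι (p13 A B)).op]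
      erw [ha]
      simp only [map_sub, map_map, affMap_comp]
      have e1 : (p23 A B).comp l = (p12 A B).comp r := by ext b; rfl
      have e2 : (p12 A B).comp l = (p13 A B).comp l := by ext b; rfl
      have e3 : (p13 A B).comp r = (p23 A B).comp r := by ext b; rfl
      rw [e1, e2, e3]
      abel))
    exact congrArg (fun v : ((B ⊗[A] B) ⊗[A] B)ˣ => (v : (B ⊗[A] B) ⊗[A] B)) key
  obtain ⟨f, b, b', N, hf, hbb, hb⟩ := exists_coboundary u hcoc p
  let Af := Localization.Away f
  let Bf := Af ⊗[A] B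
  haveI : Algebra.Etale A Af := Algebra.Etale.of_isLocalizationAway f
  haveI : Algebra.Etale A Bf := Algebra.Etale.comp A Af Bf
  haveI : Algebra.Etale A (Bf ⊗[A] Bf) := Algebra.Etale.comp A Bf (Bf ⊗[A] Bf)
  let j : B →ₐ[A] Bf := Algebra.TensorProduct.includeRight
  let π : Af →ₐ[A] Bf := Algebra.TensorProduct.includeLeft
  have hbu : IsUnit (j b) := by
    have h1 : IsUnit (algebraMap A Bf f) := by
      rw [← π.commutes]
      exact (IsLocalization.Away.algebraMap_isUnit (S := Af) f).map π
    have h2 : IsUnit (j b * j b') := by rw [← map_mul, hbb, map_pow, AlgHom.commutes]; exact h1.pow N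
    exact isUnit_of_mul_isUnit_left h2
  obtain ⟨d, hd⟩ := lift_of_coboundary ι i g w c e he u ha b hb j hbu π
    (fun y => PrimeSpectrum.comap_surjective_of_faithfullyFlat (A := Af) (B := Bf) y)
  exact ⟨f, hf, d, hd⟩

end

end H90Lib
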