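import Groth.Agent.H90Lib.Lift
import Groth.Agent.EtTransferLib.Basic
import Groth.Agent.EtSliceLib.MV
import Mathlib.AlgebraicGeometry.AffineScheme

/-!
# Hilbert 90: the first higher direct image of `G_m` on the Zariski site vanishes
-/

set_option autoImplicit false
set_option linter.unusedSectionVars false
set_option linter.style.haveILetI false
set_option backward.isDefEq.respectTransparency false
set_option backward.isDefEq.respectTransparency.types false
set_option synthInstance.maxHeartbeats 400000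
set_option maxHeartbeats 1000000

universe u

open CategoryTheory CategoryTheory.Limits CategoryTheory.Abelian AlgebraicGeometry Opposite TensorProduct
open Groth.Agent.EtShLib EtSliceLib

namespace H90Lib

noncomputable section

variable {X : Scheme.{u}}

/-- An étale affine scheme over an étale affine chart comes from an étale algebra. -/
theorem exists_algebra {A : Type u} [CommRing A] (ι : Spec (CommRingCat.of A) ⟶ X) [AlgebraicGeometry.Etale ι]
    {W : Scheme.{u}} [IsAffine W] (m : W ⟶ Spec (CommRingCat.of A)) [AlgebraicGeometry.Etale m]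
    (hm : Function.Surjective m) :
    ∃ (B : Type u) (_ : CommRing B) (_ : Algebra A B) (_ : Algebra.Etale A B) (_ : Module.FaithfullyFlat A B)
      (e : Spec (CommRingCat.of B) ⟶ W), e ≫ m = Spec.map (CommRingCat.ofHom (algebraMap A B)) := by
  let ψ : CommRingCat.of A ⟶ Γ(W, ⊤) := Spec.preimage (W.isoSpec.inv ≫ m)
  have hψ : Spec.map ψ = W.isoSpec.inv ≫ m := Spec.map_preimage _
  letI : Algebra A Γ(W, ⊤) := ψ.hom.toAlgebra
  haveI hE : Algebra.Etale A Γ(W, ⊤) := by
    haveI : AlgebraicGeometry.Etale (Spec.map ψ) := by rw [hψ]; infer_instance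
    exact RingHom.etale_algebraMap.1 ((HasRingHomProperty.Spec_iff (P := @AlgebraicGeometry.Etale)).1 ‹_›)
  have hs : Function.Surjective (PrimeSpectrum.comap (algebraMap A Γ(W, ⊤))) := fun y => by
    obtain ⟨w, hw⟩ := hm y
    refine ⟨W.isoSpec.hom w, ?_⟩
    show Spec.map ψ (W.isoSpec.hom w) = y
    rw [hψ, ← Scheme.Hom.comp_apply, Iso.hom_inv_id_assoc, hw]
  haveI : Module.FaithfullyFlat A Γ(W, ⊤) := Module.FaithfullyFlat.of_comap_surjective hs
  exact ⟨_, inferInstance, inferInstance, hE, inferInstance, W.isoSpec.inv, hψ.symm⟩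

/-- A section of the quotient of a sheaf by `G_m` lifts Zariski-locally. -/
theorem exists_lift_open {G Q : EtCoh.Ab X} (i : EtCoh.Gm X ⟶ G) (g : G ⟶ Q) (w : i ≫ g = 0)
    (hS : (ShortComplex.mk i g w).ShortExact) (V : X.Etale) (c : ToType (Q.obj.obj (op V))) (x : V.left) :
    ∃ (V' : X.Etale) (φ : V' ⟶ V) (_ : IsOpenImmersion φ.left), x ∈ Set.range φ.left ∧
      ∃ d : ToType (G.obj.obj (op V')), g.hom.app (op V') d = Q.obj.map φ.op c := by
  haveI : Epi g := hS.epi_g
  obtain ⟨W₀, φ₀, ⟨v, hv⟩, e₀, he₀⟩ := EtAcycLib.exists_lift g V c x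
  haveI : AlgebraicGeometry.Etale V.hom := V.prop
  haveI : AlgebraicGeometry.Etale W₀.hom := W₀.prop
  haveI : AlgebraicGeometry.Etale φ₀.left := MorphismProperty.of_postcomp (W := @AlgebraicGeometry.Etale)
    (W' := @AlgebraicGeometry.Etale) φ₀.left V.hom V.prop
    (by rw [MorphismProperty.Over.w φ₀]; exact W₀.prop)
  obtain ⟨_, ⟨U₀, hU₀, rfl⟩, hvU₀, -⟩ := V.left.isBasis_affineOpens.exists_subset_of_mem_open
    (Set.mem_univ x) isOpen_univ
  obtain ⟨_, ⟨U₁, hU₁, rfl⟩, hvU₁, hU₁le⟩ := W₀.left.isBasis_affineOpens.exists_subset_of_mem_open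
    (show v ∈ φ₀.left ⁻¹' (U₀ : Set V.left) by rw [Set.mem_preimage, hv]; exact hvU₀)
    (U₀.isOpen.preimage φ₀.left.continuous)
  have hopen : IsOpen (φ₀.left '' (U₁ : Set W₀.left)) := φ₀.left.isOpenMap _ U₁.isOpen
  obtain ⟨r, hrle, hxr⟩ := hU₀.exists_basicOpen_le (V := ⟨φ₀.left '' U₁, hopen⟩) ⟨x, ⟨v, hvU₁, hv⟩⟩ hvU₀
  let D : V.left.Opens := V.left.basicOpen r
  have hD : IsAffineOpen D := hU₀.basicOpen r
  have hle : U₁ ≤ φ₀.left ⁻¹ᵁ U₀ := hU₁le
  have hU₂eq : W₀.left.basicOpen (φ₀.left.appLE U₀ U₁ hle r) = U₁ ⊓ φ₀.left ⁻¹ᵁ D :=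
    (Scheme.basicOpen_appLE φ₀.left U₁ U₀ hle r)
  let U₂ : W₀.left.Opens := U₁ ⊓ φ₀.left ⁻¹ᵁ D
  have hU₂ : IsAffineOpen U₂ := by
    show IsAffineOpen (U₁ ⊓ φ₀.left ⁻¹ᵁ D)
    rw [← hU₂eq]; exact hU₁.basicOpen _
  haveI : IsAffine (U₂ : Scheme) := hU₂
  haveI : IsAffine (D : Scheme) := hD
  obtain ⟨A, _, κ, hκ, hκr⟩ : ∃ (A : Type u) (_ : CommRing A) (κ : Spec (CommRingCat.of A) ⟶ V.left),
      IsOpenImmersion κ ∧ Set.range κ = (D : Set V.left) :=
    ⟨Γ(V.left, D), inferInstance, hD.fromSpec, inferInstance, hD.range_fromSpec⟩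
  let ι : Spec (CommRingCat.of A) ⟶ X := κ ≫ V.hom
  have hsub : Set.range (U₂.ι ≫ φ₀.left) ⊆ Set.range κ := by
    rw [hκr]
    rintro _ ⟨w', rfl⟩
    exact w'.2.2
  let m : (U₂ : Scheme) ⟶ Spec (CommRingCat.of A) := IsOpenImmersion.lift κ (U₂.ι ≫ φ₀.left) hsub
  have hmκ : m ≫ κ = U₂.ι ≫ φ₀.left := IsOpenImmersion.lift_fac _ _ _
  haveI : AlgebraicGeometry.Etale m :=
    MorphismProperty.of_postcomp (W := @AlgebraicGeometry.Etale) (W' := @AlgebraicGeometry.Etale) m κ
      inferInstance (by rw [hmκ]; infer_instance)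
  have hsurj : Function.Surjective m := by
    intro y
    have hy : κ y ∈ D := hκr.le ⟨y, rfl⟩
    obtain ⟨w', hw', hw''⟩ := hrle hy
    have hmem : w' ∈ U₂ := ⟨hw', show φ₀.left w' ∈ D by rw [hw'']; exact hy⟩
    refine ⟨⟨w', hmem⟩, κ.isOpenEmbedding.injective ?_⟩
    rw [← Scheme.Hom.comp_apply, hmκ]
    exact hw''
  obtain ⟨B, _, _, _, _, e₂, he₂⟩ := exists_algebra ι m hsurj
  have hwB : (e₂ ≫ U₂.ι) ≫ W₀.hom = Spec.map (CommRingCat.ofHom (algebraMap A B)) ≫ ι := by
    simp only [ι, ← he₂, Category.assoc]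
    rw [← MorphismProperty.Over.w φ₀, reassoc_of% hmκ]
  let ψ : aff ι B ⟶ W₀ := MorphismProperty.Over.homMk (e₂ ≫ U₂.ι) hwB
  let φA : aff ι A ⟶ V := MorphismProperty.Over.homMk κ (by
    show κ ≫ V.hom = Spec.map (CommRingCat.ofHom (algebraMap A A)) ≫ ι
    simp [ι])
  have hcomm : ψ ≫ φ₀ = affMap ι (Algebra.ofId A B) ≫ φA := MorphismProperty.Over.Hom.ext (by
    show (e₂ ≫ U₂.ι) ≫ φ₀.left = Spec.map (CommRingCat.ofHom (algebraMap A B)) ≫ κ
    rw [← he₂, Category.assoc, Category.assoc, hmκ])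
  have he : g.hom.app _ (G.obj.map ψ.op e₀) = Q.obj.map (affMap ι (Algebra.ofId A B)).op (Q.obj.map φA.op c) := by
    rw [NatTrans.naturality_apply g.hom ψ.op e₀, he₀, map_map, map_map, hcomm]
  obtain ⟨x', hx'⟩ : x ∈ Set.range κ := hκr.ge hxr
  obtain ⟨f, hf, d, hd⟩ := exists_lift_aff ι i g w hS B (Q.obj.map φA.op c) (G.obj.map ψ.op e₀) he x'
  let φf := affMap ι (Algebra.ofId A (Localization.Away f)) ≫ φA
  refine ⟨aff ι (Localization.Away f), φf, ?_, ?_, d, ?_⟩
  · haveI : IsOpenImmersion (Spec.map (CommRingCat.ofHom (algebraMap A (Localization.Away f)))) :=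
      AlgebraicGeometry.IsOpenImmersion.of_isLocalization f
    show IsOpenImmersion (Spec.map (CommRingCat.ofHom (algebraMap A (Localization.Away f))) ≫ κ)
    infer_instance
  · obtain ⟨z, hz⟩ : x' ∈ Set.range (PrimeSpectrum.comap (algebraMap A (Localization.Away f))) := by
      rw [PrimeSpectrum.localization_away_comap_range (Localization.Away f) f]; exact hf
    exact ⟨z, show (Spec.map (CommRingCat.ofHom (algebraMap A (Localization.Away f))) ≫ κ) z = x by
      rw [Scheme.Hom.comp_apply]; exact (congrArg κ hz).trans hx'⟩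
  · rw [hd, map_map]

/-- A class in `H¹(X, G_m)` dies on a Zariski neighbourhood of each point. -/
theorem exists_open_kill (c : EtCoh.H X (EtCoh.Gm X) 1) (x : X) :
    ∃ U : X.Opens, x ∈ U ∧ ∀ [PreservesFiniteLimits (EtCoh.pull U.ι)], EtCore.Hpull U.ι (EtCoh.Gm X) 1 c = 0 := by
  let ip := (EnoughInjectives.presentation (EtCoh.Gm X)).some
  let S := ShortComplex.mk ip.f (cokernel.π ip.f) (cokernel.condition _)
  have hS : S.ShortExact := { exact := ShortComplex.exact_of_g_is_cokernel _ (cokernelIsCokernel _) }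
  haveI : Injective S.X₂ := ip.injective
  obtain ⟨s, rfl⟩ := Ext.covariant_sequence_exact₁ _ hS (n₁ := 1) c (Ext.eq_zero_of_injective _) (n₀ := 0) rfl
  obtain ⟨s, rfl⟩ := (Ext.mk₀_bijective _ _).2 s
  let T := EtCoh.top X
  obtain ⟨V', φ, hφ, hxr, d, hd⟩ := exists_lift_open ip.f (cokernel.π ip.f) (cokernel.condition _) hS T
    ((toConst T ≫ s).hom.app (op T) (gen T)) x
  haveI := hφ
  let U : X.Opens := φ.left.opensRange
  refine ⟨U, hxr, ?_⟩
  intro _
  haveI : AlgebraicGeometry.Etale U.ι := inferInstance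
  let W : X.Etale := MorphismProperty.Over.mk ⊤ U.ι inferInstance
  let θ : W ⟶ V' := MorphismProperty.Over.homMk φ.left.isoOpensRange.inv (by
    show φ.left.isoOpensRange.inv ≫ V'.hom = U.ι
    rw [Iso.inv_comp_eq, Scheme.Hom.isoOpensRange_hom_ι]
    exact (MorphismProperty.Over.w φ).symm.trans (Category.comp_id _))
  refine (EtTransferLib.kills_iff (W := W) (EtCoh.Gm X) 1 _).2 ?_
  have hl : freeMap θ ≫ desc V' d ≫ S.g = toConst W ≫ s := by
    rw [show toConst W = freeMap (θ ≫ φ) ≫ toConst T from (freeMap_toConst (θ ≫ φ)).symm, Category.assoc,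
      ← freeMap_comp, Category.assoc]
    congr 1
    refine free_hom_ext V' ?_
    rw [freeMap_app]
    show S.g.hom.app (op V') ((desc V' d).hom.app (op V') (gen V')) = _
    rw [desc_gen]
    exact hd
  rw [← Ext.comp_assoc_of_second_deg_zero, Ext.mk₀_comp_mk₀, ← hl, ← Category.assoc, ← Ext.mk₀_comp_mk₀,
    Ext.comp_assoc_of_second_deg_zero, hS.comp_extClass, Ext.comp_zero]

end

end H90Lib
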