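import Groth.Agent.H90Lib.Local
import Groth.Agent.EtKummerLib.SkyGm
import Groth.Agent.SkySumLib.Basic

/-!
# `R^1 f_* G_m = 0` for a map with discrete base changes
-/

set_option autoImplicit false
set_option linter.unusedSectionVars false
set_option linter.style.haveILetI false
set_option backward.isDefEq.respectTransparency false
set_option backward.isDefEq.respectTransparency.types false
set_option synthInstance.maxHeartbeats 400000
set_option maxHeartbeats 1000000

universe u

open CategoryTheory CategoryTheory.Limits CategoryTheory.Abelian AlgebraicGeometry Opposite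
open Groth.Agent.EtShLib EtSliceLib

namespace H90Lib

noncomputable section

/-- On a discrete étale scheme every section lifts. -/
theorem exists_lift_discrete {Y : Scheme.{u}} {G Q : EtCoh.Ab Y} (i : EtCoh.Gm Y ⟶ G) (g : G ⟶ Q) (w : i ≫ g = 0)
    (hS : (ShortComplex.mk i g w).ShortExact) (V : Y.Etale) [DiscreteTopology V.left]
    (c : ToType (Q.obj.obj (op V))) : ∃ b : ToType (G.obj.obj (op V)), g.hom.app (op V) b = c := by
  let O : V.left → V.left.Opens := fun v => ⟨{v}, isOpen_discrete _⟩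
  let U : V.left → Y.Etale := fun v => SkySumLib.openSub V (O v)
  let π : ∀ v, U v ⟶ V := fun v => SkySumLib.openIncl V (O v)
  have hmem : Sieve.ofArrows U π ∈ Y.smallEtaleTopology V := by
    rw [Scheme.ofArrows_mem_smallEtaleTopology_iff]
    exact Set.eq_univ_of_forall fun v => Set.mem_iUnion.2 ⟨v, ⟨v, rfl⟩, rfl⟩
  have hsh : ∀ F : EtCoh.Ab Y, (Presieve.ofArrows U π).IsSheafFor
      (F.obj ⋙ forget AddCommGrpCat.{u + 1}) := fun F => by
    rw [Presieve.isSheafFor_iff_generate]
    exact ((isSheaf_iff_isSheaf_of_type _ _).1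
      (GrothendieckTopology.HasSheafCompose.isSheaf F.obj F.property)) _ hmem
  have hl : ∀ v, ∃ b : ToType (G.obj.obj (op (U v))), g.hom.app _ b = Q.obj.map (π v).op c := fun v => by
    obtain ⟨V', φ, hφ, hv, d, hd⟩ := exists_lift_open i g w hS V c v
    haveI := hφ
    let θ : U v ⟶ V' := MorphismProperty.Over.homMk (IsOpenImmersion.lift φ.left (O v).ι (by
      rintro _ ⟨p, hp⟩
      subst hp
      obtain ⟨a, ha⟩ := hv
      exact ⟨a, ha.trans p.2.symm⟩)) (by
      show IsOpenImmersion.lift φ.left (O v).ι _ ≫ V'.hom = (O v).ι ≫ V.hom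
      rw [← MorphismProperty.Over.w φ, IsOpenImmersion.lift_fac_assoc])
    have hθ : θ ≫ φ = π v := MorphismProperty.Over.Hom.ext (IsOpenImmersion.lift_fac _ _ _)
    exact ⟨G.obj.map θ.op d, by rw [NatTrans.naturality_apply g.hom θ.op d, hd, map_map, hθ]⟩
  choose b hb using hl
  obtain ⟨t, ht, -⟩ := (Presieve.isSheafFor_arrows_iff _ _).1 (hsh G) b (fun v v' Z p q hpq => by
    by_cases hvv : v = v'
    · subst hvv
      haveI : Mono (O v).ι := inferInstance
      have : p = q := MorphismProperty.Over.Hom.ext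
        ((cancel_mono (O v).ι).1 (congrArg (fun m : Z ⟶ V => m.left) hpq))
      rw [this]
    · haveI : IsEmpty Z.left := ⟨fun z => hvv (by
        have h1 : (π v).left (p.left z) = (π v').left (q.left z) :=
          congrArg (fun m : Z ⟶ V => m.left z) hpq
        exact (p.left z).2.symm.trans (h1.trans (q.left z).2))⟩
      haveI := subsingleton_sect_of_isEmpty G Z
      exact Subsingleton.elim _ _)
  refine ⟨t, ((hsh Q).isSeparatedFor).ext fun {Z} f hf => ?_⟩
  obtain ⟨v⟩ := hf
  show Q.obj.map (π v).op _ = Q.obj.map (π v).op c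
  rw [← NatTrans.naturality_apply g.hom (π v).op t, ← hb v]
  exact congrArg (g.hom.app _) (ht v)

variable {X Y : Scheme.{u}} (f : Y ⟶ X)

theorem epi_push_map (hdisc : ∀ W : X.Etale, DiscreteTopology ((EtCoh.bc f).obj W).left)
    {G Q : EtCoh.Ab Y} (i : EtCoh.Gm Y ⟶ G) (g : G ⟶ Q) (w : i ≫ g = 0)
    (hS : (ShortComplex.mk i g w).ShortExact) : Epi ((EtCoh.push f).map g) := by
  refine (epi_iff_stalks (A := AddCommGrpCat.{u + 1}) _).2 fun Ω _ _ ξ => ?_
  refine (AddCommGrpCat.epi_iff_surjective _).2 fun p => ?_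
  obtain ⟨U, u, z, rfl⟩ := exists_germ (A := AddCommGrpCat.{u + 1}) ξ p
  haveI := hdisc U
  obtain ⟨b, hb⟩ := exists_lift_discrete i g w hS ((EtCoh.bc f).obj U) z
  refine ⟨germ (A := AddCommGrpCat.{u + 1}) ξ ((EtCoh.push f).obj G) U u b, ?_⟩
  rw [germ_natural_apply]
  exact congrArg (germ (A := AddCommGrpCat.{u + 1}) ξ ((EtCoh.push f).obj Q) U u) hb

variable [PreservesFiniteLimits (EtCoh.pull f)]

theorem hofPush_eq (F : EtCoh.Ab Y) (p : ℕ) (x : EtCoh.H X ((EtCoh.push f).obj F) p) :
    EtLim.HofPush f F p x = (Ext.mk₀ (EtCore.pullConst f ℤ).inv).comp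
      (Groth.Agent.S14451.extAdj' (EtCoh.pullPushAdj f) (EtCoh.const X ℤ) F p x) (zero_add p) := by
  exact Ext.comp_assoc _ _ _ (zero_add p) (add_zero p) (by omega)

theorem extAdj'_injective_one (F : EtCoh.Ab Y) :
    Function.Injective (Groth.Agent.S14451.extAdj'.{u + 1} (EtCoh.pullPushAdj f) (EtCoh.const X ℤ) F 1) := by
  haveI : PreservesLimitsOfSize.{0, 0} (EtCoh.push f) := (EtCoh.pullPushAdj f).rightAdjoint_preservesLimits
  haveI : PreservesFiniteLimits (EtCoh.push f) := PreservesLimitsOfSize.preservesFiniteLimits _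
  haveI : PreservesFiniteColimits (EtCoh.pull f) :=
    haveI : PreservesColimitsOfSize.{0, 0} (EtCoh.pull f) := (EtCoh.pullPushAdj f).leftAdjoint_preservesColimits
    PreservesColimitsOfSize.preservesFiniteColimits _
  haveI : (EtCoh.push f).Additive := { }
  haveI : (EtCoh.pull f).PreservesMonomorphisms := inferInstance
  refine (injective_iff_map_eq_zero _).2 fun x hx => ?_
  let ip := (EnoughInjectives.presentation F).some
  let S := ShortComplex.mk ip.f (cokernel.π ip.f) (cokernel.condition _)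
  have hS : S.ShortExact := { exact := ShortComplex.exact_of_g_is_cokernel _ (cokernelIsCokernel _) }
  haveI : Injective S.X₂ := ip.injective
  let G := EtCoh.push f
  let adj := EtCoh.pullPushAdj f
  let S₁ := ShortComplex.mk (G.map S.f) (cokernel.π (G.map S.f)) (cokernel.condition _)
  haveI : Mono (G.map S.f) := G.map_mono _
  have h₁ : S₁.ShortExact := { exact := ShortComplex.exact_of_g_is_cokernel _ (cokernelIsCokernel _) }
  haveI : Injective S₁.X₂ := Injective.injective_of_adjoint adj S.X₂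
  let j : S₁.X₃ ⟶ G.obj S.X₃ := cokernel.desc (G.map S.f) (G.map S.g) (by rw [← G.map_comp, S.zero, G.map_zero])
  haveI : Mono j := (S.map G).exact_iff_mono_cokernel_desc.1 (hS.exact.map_of_mono_of_preservesKernel G inferInstance inferInstance)
  obtain ⟨d, rfl⟩ := Ext.covariant_sequence_exact₁ _ h₁ (n₁ := 0 + 1) x (Ext.eq_zero_of_injective _) (n₀ := 0) rfl
  obtain ⟨d, rfl⟩ := (Ext.mk₀_bijective _ _).2 d
  let ψ : S₁.map (EtCoh.pull f) ⟶ S :=
    ⟨adj.counit.app S.X₁, adj.counit.app S.X₂, (adj.homEquiv _ _).symm j,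
      (adj.counit.naturality S.f).symm, (by
        show adj.counit.app S.X₂ ≫ S.g = (EtCoh.pull f).map (cokernel.π (G.map S.f)) ≫ (adj.homEquiv _ _).symm j
        rw [← Adjunction.homEquiv_naturality_left_symm, cokernel.π_desc, Adjunction.homEquiv_counit]
        exact (adj.counit.naturality S.g).symm)⟩
  have hnat := (h₁.map_of_exact (EtCoh.pull f)).extClass_naturality hS ψ
  have h0 : (Ext.mk₀ ((EtCoh.pull f).map d ≫ (adj.homEquiv _ _).symm j)).comp hS.extClass (zero_add 1) = 0 := by
    refine Eq.trans ?_ hx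
    show _ = (((Ext.mk₀ d).comp h₁.extClass _).mapExactFunctor (EtCoh.pull f)).comp (Ext.mk₀ (adj.counit.app S.X₁)) (add_zero 1)
    rw [Ext.mapExactFunctor_comp, Ext.mapExactFunctor_mk₀, Ext.comp_assoc_of_third_deg_zero, ← Ext.mk₀_comp_mk₀,
      Ext.comp_assoc_of_second_deg_zero]
    erw [Ext.mapExactFunctor_extClass]
    exact congrArg (fun z => (Ext.mk₀ ((EtCoh.pull f).map d)).comp z (zero_add 1)) hnat.symm
  obtain ⟨w, hw⟩ := Ext.covariant_sequence_exact₃ _ hS _ (n₁ := 1) (zero_add 1) h0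
  obtain ⟨e, rfl⟩ := (Ext.mk₀_bijective _ S.X₂).2 w
  rw [Ext.mk₀_comp_mk₀] at hw
  have he : e ≫ S.g = (EtCoh.pull f).map d ≫ (adj.homEquiv _ _).symm j := (Ext.mk₀_bijective _ _).1 hw
  rw [← Adjunction.homEquiv_naturality_left_symm] at he
  have hd : d = adj.homEquiv _ _ e ≫ S₁.g := by
    rw [← cancel_mono j, Category.assoc]
    show d ≫ j = adj.homEquiv _ _ e ≫ cokernel.π (G.map S.f) ≫ cokernel.desc _ _ _
    rw [cokernel.π_desc, ← Adjunction.homEquiv_naturality_right, he, Equiv.apply_symm_apply]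
  rw [hd, ← Ext.mk₀_comp_mk₀, Ext.comp_assoc_of_second_deg_zero, h₁.comp_extClass, Ext.comp_zero]

theorem hofPush_injective_two (hdisc : ∀ W : X.Etale, DiscreteTopology ((EtCoh.bc f).obj W).left) :
    Function.Injective (EtLim.HofPush f (EtCoh.Gm Y) 2) := by
  haveI : PreservesLimitsOfSize.{0, 0} (EtCoh.push f) := (EtCoh.pullPushAdj f).rightAdjoint_preservesLimits
  haveI : PreservesFiniteLimits (EtCoh.push f) := PreservesLimitsOfSize.preservesFiniteLimits _
  haveI : PreservesFiniteColimits (EtCoh.pull f) :=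
    haveI : PreservesColimitsOfSize.{0, 0} (EtCoh.pull f) := (EtCoh.pullPushAdj f).leftAdjoint_preservesColimits
    PreservesColimitsOfSize.preservesFiniteColimits _
  haveI : (EtCoh.push f).Additive := { }
  haveI : (EtCoh.pull f).PreservesMonomorphisms := inferInstance
  refine (injective_iff_map_eq_zero _).2 fun x hx => ?_
  let adj := EtCoh.pullPushAdj f
  let F := EtCoh.Gm Y
  have hx' : Groth.Agent.S14451.extAdj' adj (EtCoh.const X ℤ) F 2 x = 0 := by
    rw [hofPush_eq] at hx
    have h' := congrArg (fun z => (Ext.mk₀ (EtCore.pullConst f ℤ).hom).comp z (zero_add 2)) hx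
    rwa [Ext.mk₀_comp_mk₀_assoc, Iso.hom_inv_id, Ext.mk₀_id_comp, Ext.comp_zero] at h'
  let ip := (EnoughInjectives.presentation F).some
  let S := ShortComplex.mk ip.f (cokernel.π ip.f) (cokernel.condition _)
  have hS : S.ShortExact := { exact := ShortComplex.exact_of_g_is_cokernel _ (cokernelIsCokernel _) }
  haveI : Injective S.X₂ := ip.injective
  haveI : Injective ((EtCoh.push f).obj S.X₂) := Injective.injective_of_adjoint adj S.X₂
  haveI : Epi ((EtCoh.push f).map S.g) := epi_push_map f hdisc ip.f (cokernel.π ip.f) (cokernel.condition _) hS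
  have hG : (S.map (EtCoh.push f)).ShortExact := Groth.Agent.RDerLib.map_shortExact hS inferInstance
  haveI : Injective (S.map (EtCoh.push f)).X₂ := ‹Injective ((EtCoh.push f).obj S.X₂)›
  obtain ⟨c, rfl⟩ := Ext.covariant_sequence_exact₁ _ hG (n₁ := 1 + 1) x (Ext.eq_zero_of_injective _) (n₀ := 1) rfl
  change Ext.{u + 1} _ ((EtCoh.push f).obj S.X₃) 1 at c
  have h1 : (Groth.Agent.S14451.extAdj' adj (EtCoh.const X ℤ) S.X₃ 1 c).comp hS.extClass rfl = 0 := by
    rw [Groth.Agent.S14451.extAdj'_delta adj (EtCoh.const X ℤ) hS hG c]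
    exact hx'
  obtain ⟨w, hw⟩ := Ext.covariant_sequence_exact₃ _ hS _ rfl h1
  rw [show w = 0 from Ext.eq_zero_of_injective _, Ext.zero_comp] at hw
  have hc : c = 0 := extAdj'_injective_one f S.X₃ (hw.symm.trans (map_zero _).symm)
  rw [hc]
  exact Ext.zero_comp _ _ hG.extClass _ _

end

end H90Lib
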