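import Groth.Agent.SkySumLib.MaxGm
import Mathlib.RingTheory.Localization.BaseChange

/-!
# The base change of an étale affine scheme to a local scheme of the base
-/

set_option autoImplicit false
set_option linter.style.haveILetI false
set_option linter.unusedSectionVars false
set_option backward.isDefEq.respectTransparency false
set_option backward.isDefEq.respectTransparency.types false
set_option synthInstance.maxHeartbeats 400000
set_option maxHeartbeats 1000000

universe u

open CategoryTheory CategoryTheory.Limits AlgebraicGeometry Opposite TensorProduct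

noncomputable section

namespace H90Lib

variable {X : Scheme.{u}}

/-- Sections over the base change to `Spec 𝒪_{X,x}` are fractions with denominators invertible over `x`. -/
theorem loc_data {D : X.Opens} (hD : IsAffineOpen D) {x : X} (hx : x ∈ D) {W : Scheme.{u}} [IsAffine W]
    (a : W ⟶ X) (ha : Set.range a ⊆ (D : Set X)) :
    (∀ b b' : Γ(W, ⊤), (pullback.fst a (X.fromSpecStalk x)).appTop.hom b =
        (pullback.fst a (X.fromSpecStalk x)).appTop.hom b' →
      ∃ c : Γ(W, ⊤), (∀ w, a w = x → w ∈ W.basicOpen c) ∧ c * b = c * b') ∧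
    (∀ t : Γ(pullback a (X.fromSpecStalk x), ⊤), ∃ (n c : Γ(W, ⊤)), (∀ w, a w = x → w ∈ W.basicOpen c) ∧
      t * (pullback.fst a (X.fromSpecStalk x)).appTop.hom c = (pullback.fst a (X.fromSpecStalk x)).appTop.hom n) := by
  let R := Γ(X, D)
  let O := X.presheaf.stalk x
  let B := Γ(W, ⊤)
  let m : W ⟶ Spec R := IsOpenImmersion.lift hD.fromSpec a (by rw [hD.range_fromSpec]; exact ha)
  have hm : m ≫ hD.fromSpec = a := IsOpenImmersion.lift_fac _ _ _
  let ψ : R ⟶ B := Spec.preimage (W.isoSpec.inv ≫ m)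
  have hψ : Spec.map ψ = W.isoSpec.inv ≫ m := Spec.map_preimage _
  let γ : R ⟶ O := X.presheaf.germ D x hx
  letI : Algebra R B := ψ.hom.toAlgebra
  letI : Algebra R O := γ.hom.toAlgebra
  let P := (hD.primeIdealOf ⟨x, hx⟩).asIdeal
  haveI : IsLocalization.AtPrime O P := hD.isLocalization_stalk ⟨x, hx⟩
  let l : B ⟶ CommRingCat.of (B ⊗[R] O) := CommRingCat.ofHom Algebra.TensorProduct.includeLeftRingHom
  let r : O ⟶ CommRingCat.of (B ⊗[R] O) :=
    CommRingCat.ofHom (Algebra.TensorProduct.includeRight (R := R) (A := B) (B := O)).toRingHom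
  let f₁ := Spec.map (CommRingCat.ofHom (algebraMap R B))
  let f₂ := Spec.map (CommRingCat.ofHom (algebraMap R O))
  have hf₁ : W.isoSpec.hom ≫ f₁ ≫ hD.fromSpec = a := by
    show W.isoSpec.hom ≫ Spec.map ψ ≫ hD.fromSpec = a
    rw [hψ, Category.assoc, Iso.hom_inv_id_assoc, hm]
  have hf₂ : f₂ ≫ hD.fromSpec = X.fromSpecStalk x :=
    (hD.fromSpecStalk_eq_fromSpecStalk hx : hD.fromSpecStalk hx = X.fromSpecStalk x)
  let I : pullback f₁ f₂ ≅ Spec (CommRingCat.of (B ⊗[R] O)) := pullbackSpecIso R B O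
  have hI1 : I.inv ≫ pullback.fst f₁ f₂ = Spec.map l := pullbackSpecIso_inv_fst R B O
  let e : Spec (CommRingCat.of (B ⊗[R] O)) ≅ pullback a (X.fromSpecStalk x) :=
    { hom := pullback.lift (I.inv ≫ pullback.fst f₁ f₂ ≫ W.isoSpec.inv) (I.inv ≫ pullback.snd f₁ f₂) (by
        rw [← hf₁, ← hf₂]
        simp only [Category.assoc, Iso.inv_hom_id_assoc]
        rw [pullback.condition_assoc])
      inv := pullback.lift (pullback.fst a (X.fromSpecStalk x) ≫ W.isoSpec.hom) (pullback.snd a (X.fromSpecStalk x)) (by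
        rw [← cancel_mono hD.fromSpec, Category.assoc, Category.assoc, Category.assoc, hf₁, hf₂, pullback.condition])
        ≫ I.hom
      hom_inv_id := by
        rw [← cancel_mono I.inv]
        simp only [Category.assoc, Iso.hom_inv_id, Category.id_comp, Category.comp_id]
        apply pullback.hom_ext <;> simp
      inv_hom_id := by apply pullback.hom_ext <;> simp }
  have he : e.hom ≫ pullback.fst a (X.fromSpecStalk x) = Spec.map l ≫ W.isoSpec.inv := by
    rw [← hI1, Category.assoc]
    exact pullback.lift_fst _ _ _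
  let φ : Γ(pullback a (X.fromSpecStalk x), ⊤) →+* B ⊗[R] O :=
    (Scheme.ΓSpecIso (CommRingCat.of (B ⊗[R] O))).hom.hom.comp e.hom.appTop.hom
  have hφ : Function.Bijective φ :=
    (ConcreteCategory.bijective_of_isIso (Scheme.ΓSpecIso (CommRingCat.of (B ⊗[R] O))).hom).comp
      (haveI : IsIso e.hom := Iso.isIso_hom e
      haveI : IsIso e.hom.appTop := inferInstanceAs (IsIso (Scheme.Γ.map e.hom.op))
      ConcreteCategory.bijective_of_isIso e.hom.appTop)
  have hfst : ∀ b : B, φ ((pullback.fst a (X.fromSpecStalk x)).appTop.hom b) = algebraMap B (B ⊗[R] O) b := by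
    intro b
    have h1 := congrArg (fun f : Spec (CommRingCat.of (B ⊗[R] O)) ⟶ W => f.appTop ≫ (Scheme.ΓSpecIso _).hom) he
    simp only [Scheme.Hom.comp_appTop, Category.assoc, Scheme.ΓSpecIso_naturality] at h1
    have h2 : W.isoSpec.inv.appTop ≫ (Scheme.ΓSpecIso Γ(W, ⊤)).hom = 𝟙 _ := by
      have h3 := congrArg (fun f : Spec Γ(W, ⊤) ⟶ Spec Γ(W, ⊤) => f.appTop) W.isoSpec.inv_hom_id
      simp only [Scheme.Hom.comp_appTop, Scheme.Hom.id_appTop, Scheme.isoSpec_hom, Scheme.toSpecΓ_appTop] at h3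
      rw [← cancel_epi (Scheme.ΓSpecIso Γ(W, ⊤)).hom, reassoc_of% h3, Category.comp_id]
    rw [reassoc_of% h2] at h1
    exact congrArg (fun f : Γ(W, ⊤) ⟶ CommRingCat.of (B ⊗[R] O) => f.hom b) h1
  have hunit : ∀ s ∈ P.primeCompl, ∀ w, a w = x → w ∈ W.basicOpen (algebraMap R B s) := by
    intro s hs w hw
    have h1 : W.isoSpec.hom w ∈ PrimeSpectrum.basicOpen (algebraMap R B s) := by
      show ψ.hom s ∉ (W.isoSpec.hom w).asIdeal
      have h2 : Spec.map ψ (W.isoSpec.hom w) = hD.primeIdealOf ⟨x, hx⟩ := by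
        apply hD.fromSpec.isOpenEmbedding.injective
        rw [hD.fromSpec_primeIdealOf]
        rw [← Scheme.Hom.comp_apply, ← Scheme.Hom.comp_apply]
        exact (congrArg (fun f : W ⟶ X => f w) hf₁).trans hw
      intro h3
      have h4 : s ∈ (Spec.map ψ (W.isoSpec.hom w)).asIdeal := h3
      rw [h2] at h4
      exact hs h4
    rw [← Scheme.toSpecΓ_preimage_basicOpen]
    exact h1
  refine ⟨fun b b' h => ?_, fun t => ?_⟩
  · have h' := congrArg φ h
    rw [hfst, hfst] at h'
    obtain ⟨⟨_, s, hs, rfl⟩, hc⟩ :=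
      (IsLocalization.eq_iff_exists (Algebra.algebraMapSubmonoid B P.primeCompl) (B ⊗[R] O)).1 h'
    exact ⟨algebraMap R B s, hunit s hs, hc⟩
  · obtain ⟨⟨n, _, s, hs, rfl⟩, hc⟩ := IsLocalization.surj (Algebra.algebraMapSubmonoid B P.primeCompl) (φ t)
    refine ⟨n, algebraMap R B s, hunit s hs, hφ.1 ?_⟩
    rw [map_mul, hfst, hfst]
    exact hc

end H90Lib

end
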